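import Cfsg.Agent.Lib.Spor.Pk

/-!
Products of packed matrices over `ZMod p`.
-/

set_option autoImplicit false

namespace Cfsg.Agent.Spor

open Cfsg.Agent.PG Finset Matrix

/-- the parameters of a packing -/
structure Par : Type where
  /-- modulus -/
  p : ℕ
  /-- dimension -/
  n : ℕ
  /-- width of a digit -/
  w : ℕ
  /-- bits of an entry of a letter -/
  k : ℕ
  /-- bound for the digits of a state -/
  c : ℕ
  /-- bits of a quotient in the final test -/
  j : ℕ
  /-- positions of the folds -/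
  ks : List ℕ

/-- bound after the folds -/
def foldOK (p w c : ℕ) : List ℕ → ℕ → Prop
  | [], b => b ≤ c
  | k :: ks, b => b < 2 ^ w ∧ k ≤ w ∧ foldOK p w c ks (2 ^ k - 1 + 2 ^ k % p * (b / 2 ^ k))

instance foldOK_dec (p w c : ℕ) : ∀ ks b, Decidable (foldOK p w c ks b)
  | [], b => inferInstanceAs (Decidable (b ≤ c))
  | _ :: ks, _ => @instDecidableAnd _ _ _ (@instDecidableAnd _ _ _ (foldOK_dec p w c ks _))

/-- the parameters are consistent -/
def Par.OK (P : Par) : Prop :=
  0 < P.w ∧ P.k ≤ P.w ∧ 1 ≤ P.c ∧ 1 ≤ P.p ∧ P.c * P.p < 2 ^ P.w ∧ P.j ≤ P.w ∧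
    P.p * (2 ^ P.j - 1) < 2 ^ P.w ∧ foldOK P.p P.w P.c P.ks (P.n * (P.c * (2 ^ P.k - 1)))

instance (P : Par) : Decidable P.OK := by unfold Par.OK; infer_instance

/-- reduce the digits -/
noncomputable def folds (p w on : ℕ) (ks : List ℕ) : ℕ → ℕ :=
  List.rec (motive := fun _ => ℕ → ℕ) (fun X => X)
    (fun k _ ih X => force (Nat.add (Nat.land X (Nat.mul (msk k) on))
      (Nat.mul (Nat.mod (Nat.shiftLeft 1 k) p)
        (Nat.land (Nat.shiftRight X k) (Nat.mul (msk (Nat.sub w k)) on)))) ih) ks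

theorem folds_spec {p w c N : ℕ} (hw : 0 < w) {ks : List ℕ} {b : ℕ} (h : foldOK p w c ks b)
    {f : ℕ → ℕ} (hf : ∀ i < N, f i ≤ b) :
    ∃ g : ℕ → ℕ, (∀ i < N, g i ≤ c) ∧ folds p w (ones w N) ks (pk w N f) = pk w N g ∧
      ∀ i < N, (g i : ZMod p) = f i := by
  induction ks generalizing b f with
  | nil => exact ⟨f, fun i hi => (hf i hi).trans h, rfl, fun _ _ => rfl⟩
  | cons k ks ih =>
    obtain ⟨h1, h2, h3⟩ := h
    have hf' : ∀ i < N, f i < 2 ^ w := fun i hi => lt_of_le_of_lt (hf i hi) h1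
    have e1 : pk w N f &&& msk k * ones w N = pk w N fun i => f i % 2 ^ k := by
      rw [msk_mul_ones hw]
      have := shr_land_pk hw (N := N) (g := fun _ => msk k) (fun _ _ => msk_lt h2) (pk w N f) 0
      rw [Nat.shiftRight_zero] at this
      rw [this]
      refine pk_congr fun i hi => ?_
      rw [dig_pk hf' hi (msk_lt h2), Nat.shiftRight_zero, msk_eq,
        Nat.and_two_pow_sub_one_eq_mod]
    have e2 : (pk w N f >>> k) &&& msk (w - k) * ones w N = pk w N fun i => f i / 2 ^ k := by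
      rw [msk_mul_ones hw, shr_land_pk hw (fun _ _ => msk_lt (Nat.sub_le _ _))]
      refine pk_congr fun i hi => ?_
      rw [dig_pk hf' hi (msk_lt le_rfl), msk_eq, Nat.and_two_pow_sub_one_eq_mod,
        Nat.shiftRight_eq_div_pow, Nat.mod_eq_of_lt]
      rw [Nat.div_lt_iff_lt_mul (by positivity), ← pow_add, Nat.sub_add_cancel h2]
      exact hf' i hi
    obtain ⟨g, g1, g2, g3⟩ := ih h3 (f := fun i => f i % 2 ^ k + 2 ^ k % p * (f i / 2 ^ k))
      fun i hi => Nat.add_le_add (Nat.le_sub_one_of_lt (Nat.mod_lt _ (by positivity)))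
        (Nat.mul_le_mul_left _ (Nat.div_le_div_right (hf i hi)))
    refine ⟨g, g1, ?_, fun i hi => ?_⟩
    · rw [← g2, ← pk_add, ← mul_pk, ← e1, ← e2, ← Nat.one_shiftLeft k]
      exact force_eq _ _
    · rw [g3 i hi]
      conv_rhs => rw [← Nat.mod_add_div (f i) (2 ^ k)]
      simp

/-- the sum of column times row -/
noncomputable def mulS (w cm lo X : ℕ) (rows : List ℕ) : ℕ → ℕ :=
  List.rec (motive := fun _ => ℕ → ℕ) (fun _ => 0)
    (fun row _ ih s => Nat.add (Nat.mul (Nat.land (Nat.shiftRight X s) cm) (Nat.land row lo))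
      (force (Nat.add s w) ih)) rows

theorem mulS_eq (w cm lo X : ℕ) (rows : List ℕ) (s : ℕ) :
    mulS w cm lo X rows (w * s) =
      ∑ i ∈ range rows.length, ((X >>> (w * (s + i))) &&& cm) * (rows.getD i 0 &&& lo) := by
  induction rows generalizing s with
  | nil => rfl
  | cons row rows ih =>
    show ((X >>> (w * s)) &&& cm) * (row &&& lo) + force (w * s + w) (mulS w cm lo X rows) = _
    rw [force_eq, ← Nat.mul_succ, ih, List.length_cons, sum_range_succ', add_comm]
    congr 1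
    exact sum_congr rfl fun i _ => by rw [show s.succ + i = s + (i + 1) by omega]; rfl

/-- the matrix of a list of rows; the empty list stands for the identity -/
noncomputable def mat (P : Par) (rows : List ℕ) : Matrix (Fin P.n) (Fin P.n) (ZMod P.p) :=
  if rows = [] then 1 else
    Matrix.of fun r s => (((rows.getD r 0 >>> (P.w * s)) &&& msk P.k : ℕ) : ZMod P.p)

/-- multiply a state by a matrix -/
noncomputable def mulM (P : Par) (on cm lo : ℕ) (rows : List ℕ) (X : ℕ) : ℕ :=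
  List.rec (motive := fun _ => ℕ) X
    (fun row rows _ => force (mulS P.w cm lo X (row :: rows) 0) (folds P.p P.w on P.ks)) rows

/-- `X` packs the rows `r0, …, r0 + m - 1` of `M` -/
def Rp (P : Par) (r0 m X : ℕ) (M : Matrix (Fin P.n) (Fin P.n) (ZMod P.p)) : Prop :=
  ∃ f : ℕ → ℕ, (∀ i < m * P.n, f i ≤ P.c) ∧ X = pk P.w (m * P.n) f ∧
    ∀ r s : Fin P.n, r0 ≤ r → r < r0 + m → (f ((r - r0) * P.n + s) : ZMod P.p) = M r s

theorem idx_lt {m n r s : ℕ} (hr : r < m) (hs : s < n) : r * n + s < m * n := by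
  have : (r + 1) * n ≤ m * n := Nat.mul_le_mul_right _ hr
  rw [Nat.succ_mul] at this
  omega

theorem Par.OK.c_lt {P : Par} (hP : P.OK) : P.c < 2 ^ P.w :=
  lt_of_le_of_lt (Nat.le_mul_of_pos_right _ hP.2.2.2.1) hP.2.2.2.2.1

theorem mulM_spec {P : Par} (hP : P.OK) {r0 m X : ℕ} {M : Matrix (Fin P.n) (Fin P.n) (ZMod P.p)}
    (hX : Rp P r0 m X M) {rows : List ℕ} (hl : rows.length ≤ P.n) :
    Rp P r0 m (mulM P (ones P.w (m * P.n)) (msk P.w * ones (P.w * P.n) m) (msk P.k * ones P.w P.n)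
      rows X) (M * mat P rows) := by
  cases rows with
  | nil => unfold mat; rw [if_pos rfl, mul_one]; exact hX
  | cons row rows =>
    have hc := hP.c_lt
    obtain ⟨hw, hk, -, -, -, -, -, hf⟩ := hP
    obtain ⟨f, f1, rfl, f3⟩ := hX
    have hn : 0 < P.n := lt_of_lt_of_le (Nat.succ_pos _) hl
    generalize hL : row :: rows = L at hl
    let b : ℕ → ℕ → ℕ := fun i s => (L.getD i 0 >>> (P.w * s)) &&& msk P.k
    have e : mulS P.w (msk P.w * ones (P.w * P.n) m) (msk P.k * ones P.w P.n)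
        (pk P.w (m * P.n) f) L 0 =
        pk P.w (m * P.n) fun i => ∑ s ∈ range P.n, f (i / P.n * P.n + s) * b s (i % P.n) := by
      have := mulS_eq P.w (msk P.w * ones (P.w * P.n) m) (msk P.k * ones P.w P.n)
        (pk P.w (m * P.n) f) L 0
      rw [mul_zero] at this
      rw [this, sum_subset (range_subset_range.2 hl) (fun i _ hi => by
        rw [List.getD_eq_default _ _ (by simpa using hi)]; simp)]
      unfold pk
      simp only [sum_mul]
      rw [sum_comm]
      refine sum_congr rfl fun s hs => ?_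
      rw [mem_range] at hs
      have a1 : L.getD s 0 &&& msk P.k * ones P.w P.n = pk P.w P.n (b s) := by
        rw [msk_mul_ones hw]
        have := shr_land_pk hw (N := P.n) (g := fun _ => msk P.k) (fun _ _ => msk_lt hk)
          (L.getD s 0) 0
        simp only [Nat.shiftRight_zero, zero_add] at this
        exact this
      have a2 : (pk P.w (m * P.n) f >>> (P.w * (0 + s))) &&& msk P.w * ones (P.w * P.n) m =
          pk (P.w * P.n) m fun r => f (r * P.n + s) := by
        rw [msk_mul_ones (Nat.mul_pos hw hn), shr_land_pk (Nat.mul_pos hw hn)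
          (fun _ _ => msk_lt (Nat.le_mul_of_pos_right _ hn))]
        refine pk_congr fun r hr => ?_
        rw [show P.w * (0 + s) + P.w * P.n * r = P.w * (r * P.n + s) by ring, msk_eq]
        exact dig_pk0 (fun i hi => lt_of_le_of_lt (f1 i hi) hc) (idx_lt hr hs)
      have := pk_mul_pk P.w m P.n (fun r => f (r * P.n + s)) (b s)
      rw [← a1, ← a2] at this
      exact this
    obtain ⟨g, g1, g2, g3⟩ := folds_spec (N := m * P.n) hw hf
      (f := fun i => ∑ s ∈ range P.n, f (i / P.n * P.n + s) * b s (i % P.n)) (fun i hi => by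
        refine (sum_le_card_nsmul _ _ (P.c * (2 ^ P.k - 1)) fun s hs => ?_).trans (by simp)
        refine Nat.mul_le_mul (f1 _ (idx_lt ?_ (mem_range.1 hs))) ?_
        · rwa [Nat.div_lt_iff_lt_mul hn]
        · rw [← msk_eq]; exact Nat.and_le_right)
    refine ⟨g, g1, ?_, fun r s h1 h2 => ?_⟩
    · rw [← g2, ← e, ← hL]
      exact force_eq _ _
    · have h3 : ((r - r0) * P.n + s) / P.n = r - r0 := by
        rw [add_comm, Nat.add_mul_div_right _ _ hn, Nat.div_eq_of_lt s.2, zero_add]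
      have h4 : ((r - r0) * P.n + s) % P.n = s := by
        rw [add_comm, Nat.add_mul_mod_self_right, Nat.mod_eq_of_lt s.2]
      rw [g3 _ (idx_lt (by omega) s.2), h3, h4, Matrix.mul_apply, ← Fin.sum_univ_eq_sum_range
        (fun t => f ((r - r0) * P.n + t) * b t s), Nat.cast_sum]
      refine sum_congr rfl fun t _ => ?_
      unfold mat
      rw [Nat.cast_mul, f3 r t h1 h2, if_neg (hL ▸ List.cons_ne_nil _ _)]
      rfl

/-- rows of the identity -/
def idS (P : Par) (r0 m : ℕ) : ℕ :=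
  Nat.shiftLeft (ones (Nat.mul P.w (Nat.succ P.n)) m) (Nat.mul P.w r0)

theorem idS_spec {P : Par} (hP : P.OK) {r0 m : ℕ} (h : r0 + m ≤ P.n) :
    Rp P r0 m (idS P r0 m) 1 := by
  refine ⟨fun i => if i % P.n = r0 + i / P.n then 1 else 0, fun i _ => ?_, ?_, fun r s h1 h2 => ?_⟩
  · beta_reduce
    split_ifs
    · exact hP.2.2.1
    · exact Nat.zero_le _
  · show (ones (P.w * (P.n + 1)) m) <<< (P.w * r0) = _
    rw [pk_flat, ones_eq (Nat.mul_pos hP.1 (Nat.succ_pos _)), Nat.shiftLeft_eq]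
    unfold pk
    rw [sum_mul]
    refine sum_congr rfl fun r hr => ?_
    rw [mem_range] at hr
    have : ∀ s ∈ range P.n, (if (r * P.n + s) % P.n = r0 + (r * P.n + s) / P.n then 1 else 0) *
        2 ^ (P.w * s) = if s = r0 + r then 2 ^ (P.w * s) else 0 := by
      intro s hs
      rw [mem_range] at hs
      rw [add_comm, Nat.add_mul_div_right _ _ (by omega), Nat.div_eq_of_lt hs, zero_add,
        Nat.add_mul_mod_self_right, Nat.mod_eq_of_lt hs]
      split_ifs <;> simp
    beta_reduce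
    rw [sum_congr rfl this, sum_ite_eq', if_pos (mem_range.2 (by omega)), Nat.succ_eq_add_one]
    ring
  · have hn : 0 < P.n := lt_of_le_of_lt (Nat.zero_le _) s.2
    have h3 : ((r - r0) * P.n + s) / P.n = r - r0 := by
      rw [add_comm, Nat.add_mul_div_right _ _ hn, Nat.div_eq_of_lt s.2, zero_add]
    have h4 : ((r - r0) * P.n + s) % P.n = s := by
      rw [add_comm, Nat.add_mul_mod_self_right, Nat.mod_eq_of_lt s.2]
    simp only [h3, h4, Matrix.one_apply, Fin.ext_iff]
    rw [show r0 + (r - r0) = r by omega]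
    by_cases e : (r : ℕ) = s
    · simp [e]
    · simp [e, Ne.symm e]

/-- test of congruence of all digits -/
noncomputable def eqT (P : Par) (on X Y : ℕ) : Bool :=
  force (Nat.add X (Nat.mul (Nat.pred P.p) Y)) fun D => andB (Nat.beq (Nat.mod D P.p) 0)
    (force (Nat.div D P.p) fun Q => Nat.beq (Nat.land Q (Nat.mul (msk P.j) on)) Q)

theorem eqT_spec {P : Par} (hP : P.OK) {r0 m X Y : ℕ}
    {M M' : Matrix (Fin P.n) (Fin P.n) (ZMod P.p)} (hX : Rp P r0 m X M) (hY : Rp P r0 m Y M')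
    (h : eqT P (ones P.w (m * P.n)) X Y = true) (r : Fin P.n) (h1 : r0 ≤ r) (h2 : r < r0 + m) :
    M r = M' r := by
  obtain ⟨hw, -, -, hp, hc, hj, hj', -⟩ := hP
  obtain ⟨f, f1, rfl, f3⟩ := hX
  obtain ⟨g, g1, rfl, g3⟩ := hY
  unfold eqT at h
  simp only [force_eq, andB_eq, Bool.and_eq_true, Nat.beq_eq] at h
  have e : Nat.add (pk P.w (m * P.n) f) (Nat.mul (Nat.pred P.p) (pk P.w (m * P.n) g)) =
      pk P.w (m * P.n) fun i => f i + (P.p - 1) * g i := by
    rw [← pk_add, ← mul_pk]; rfl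
  rw [e] at h
  generalize hD : (pk P.w (m * P.n) fun i => f i + (P.p - 1) * g i) = D at h
  obtain ⟨a1, a2⟩ := h
  have a3 : D = P.p * ((D / P.p) &&& msk P.j * ones P.w (m * P.n)) := by
    have a2' : (D / P.p) &&& msk P.j * ones P.w (m * P.n) = D / P.p := a2
    rw [a2', Nat.mul_div_cancel' (Nat.dvd_of_mod_eq_zero a1)]
  have a4 := shr_land_pk hw (N := m * P.n) (g := fun _ => msk P.j) (fun _ _ => msk_lt hj)
    (D / P.p) 0
  rw [Nat.shiftRight_zero] at a4
  rw [msk_mul_ones hw, a4, mul_pk] at a3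
  have a5 := pk_inj (fun i hi => ?_) (fun i _ => ?_) (hD.trans a3)
  · ext s
    have a6 := congrArg (Nat.cast : ℕ → ZMod P.p) (a5 _ (idx_lt (show r - r0 < m by omega) s.2))
    rw [Nat.cast_add, Nat.cast_mul, Nat.cast_mul, f3 r s h1 h2, g3 r s h1 h2, Nat.cast_sub hp]
      at a6
    simp only [CharP.cast_eq_zero, zero_mul, zero_sub, Nat.cast_one, neg_mul, one_mul] at a6
    exact add_neg_eq_zero.1 a6
  · refine lt_of_le_of_lt ?_ hc
    calc _ ≤ P.c + (P.p - 1) * P.c := Nat.add_le_add (f1 i hi) (Nat.mul_le_mul_left _ (g1 i hi))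
      _ = P.c * (P.p - 1 + 1) := by ring
      _ = _ := by rw [Nat.sub_add_cancel hp]
  · refine lt_of_le_of_lt (Nat.mul_le_mul_left _ ?_) hj'
    rw [← msk_eq]; exact Nat.and_le_right

/-- test that the digits number `s` are not congruent -/
noncomputable def neT (P : Par) (s X Y : ℕ) : Bool :=
  Bool.not (Nat.beq (Nat.mod (Nat.land (Nat.shiftRight X (Nat.mul P.w s)) (msk P.w)) P.p)
    (Nat.mod (Nat.land (Nat.shiftRight Y (Nat.mul P.w s)) (msk P.w)) P.p))

theorem neT_spec {P : Par} (hP : P.OK) {r s X Y : ℕ} (hr : r < P.n) (hs : s < P.n)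
    {M M' : Matrix (Fin P.n) (Fin P.n) (ZMod P.p)} (hX : Rp P r 1 X M) (hY : Rp P r 1 Y M')
    (h : neT P s X Y = true) : M ≠ M' := by
  rintro rfl
  have hc := hP.c_lt
  obtain ⟨f, f1, rfl, f3⟩ := hX
  obtain ⟨g, g1, rfl, g3⟩ := hY
  have a1 := f3 ⟨r, hr⟩ ⟨s, hs⟩ le_rfl (Nat.lt_succ_self _)
  rw [← g3 ⟨r, hr⟩ ⟨s, hs⟩ le_rfl (Nat.lt_succ_self _), ZMod.natCast_eq_natCast_iff'] at a1
  simp only [Nat.sub_self, zero_mul, zero_add] at a1
  have a2 := dig_pk0 (fun i hi => lt_of_le_of_lt (f1 i hi) hc) (show s < 1 * P.n by omega)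
  have a3 := dig_pk0 (fun i hi => lt_of_le_of_lt (g1 i hi) hc) (show s < 1 * P.n by omega)
  rw [← msk_eq] at a2 a3
  have : (!(Nat.beq (((pk P.w (1 * P.n) f >>> (P.w * s)) &&& msk P.w) % P.p)
    (((pk P.w (1 * P.n) g >>> (P.w * s)) &&& msk P.w) % P.p))) = true := h
  rw [a2, a3, a1] at this
  simp at this

open Classical in
/-- the unit given by a matrix and its inverse -/
noncomputable def mkU {n : Type*} [Fintype n] [DecidableEq n] {R : Type*} [CommRing R]
    (B B' : Matrix n n R) : GL n R :=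
  if h : B * B' = 1 then ⟨B, B', h, mul_eq_one_comm.1 h⟩ else 1

/-- a list of letters: rows of the matrix, rows of its inverse -/
abbrev Lets : Type := List (List ℕ × List ℕ)

/-- the letters as invertible matrices -/
noncomputable def gam (P : Par) (L : Lets) (j : ℕ) : GL (Fin P.n) (ZMod P.p) :=
  mkU (mat P (nthD ([], []) L j).1) (mat P (nthD ([], []) L j).2)

/-- the letter is correct -/
def LetOK (P : Par) (q : List ℕ × List ℕ) : Prop :=
  q.1.length ≤ P.n ∧ q.2.length ≤ P.n ∧ mat P q.1 * mat P q.2 = 1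

/-- the data are correct -/
def Good (P : Par) (L : Lets) : Prop := P.OK ∧ ∀ q ∈ L, LetOK P q

theorem Good.nth {P : Par} {L : Lets} (h : Good P L) (j : ℕ) : LetOK P (nthD ([], []) L j) := by
  rcases nthD_mem_or ([], []) L j with h1 | h1
  · rw [h1]; exact ⟨Nat.zero_le _, Nat.zero_le _, by simp [mat]⟩
  · exact h.2 _ h1

theorem gam_val {P : Par} {L : Lets} (h : Good P L) (j : ℕ) :
    (gam P L j : Matrix _ _ _) = mat P (nthD ([], []) L j).1 := by
  unfold gam mkU; rw [dif_pos (h.nth j).2.2]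

theorem gam_inv {P : Par} {L : Lets} (h : Good P L) (j : ℕ) :
    ((gam P L j)⁻¹ : GL _ _) = mat P (nthD ([], []) L j).2 := by
  unfold gam mkU; rw [dif_pos (h.nth j).2.2]; rfl

theorem gam_eq_one {P : Par} {L : Lets} {j : ℕ} (h : nthD ([], []) L j = ([], [])) :
    gam P L j = 1 := by
  unfold gam mkU
  rw [h, dif_pos (by simp [mat])]
  ext; simp [mat]

theorem gam_of_le (P : Par) {L : Lets} {j : ℕ} (h : L.length ≤ j) : gam P L j = 1 :=
  gam_eq_one (by rw [nthD_eq]; exact List.getD_eq_default _ _ h)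

/-- test of a letter -/
noncomputable def letB (P : Par) (q : List ℕ × List ℕ) : Bool :=
  andB (Nat.ble q.1.length P.n) <| andB (Nat.ble q.2.length P.n) <|
  force (ones P.w (Nat.mul P.n P.n)) fun on =>
  force (Nat.mul (msk P.w) (ones (Nat.mul P.w P.n) P.n)) fun cm =>
  force (Nat.mul (msk P.k) (ones P.w P.n)) fun lo => force (idS P 0 P.n) fun X =>
  force (mulM P on cm lo q.1 X) fun Y => eqT P on (mulM P on cm lo q.2 Y) X

theorem letB_spec {P : Par} (hP : P.OK) {q : List ℕ × List ℕ} (h : letB P q = true) :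
    LetOK P q := by
  unfold letB at h
  simp only [force_eq, andB_eq, Bool.and_eq_true, Nat.ble_eq] at h
  refine ⟨h.1, h.2.1, ?_⟩
  have h0 := idS_spec hP (r0 := 0) (m := P.n) (by omega)
  ext r s
  have := eqT_spec hP (mulM_spec hP (mulM_spec hP h0 h.1) h.2.1) h0 h.2.2 r (Nat.zero_le _)
    (by simp)
  rw [one_mul] at this
  exact congrFun this s

theorem letsB_spec {P : Par} (hP : P.OK) {L : Lets} (h : allL L (letB P) = true) :
    ∀ q ∈ L, LetOK P q := fun q hq => letB_spec hP (allL_spec h q hq)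

/-- apply a letter -/
noncomputable def apM (P : Par) (L : Lets) (on cm lo c X : ℕ) : ℕ :=
  mulM P on cm lo (iteB (Nat.beq (Nat.mod c 2) 1) (nthD ([], []) L (Nat.div c 2)).2
    (nthD ([], []) L (Nat.div c 2)).1) X

theorem apM_spec {P : Par} {L : Lets} (h : Good P L) (r0 m c X : ℕ)
    (g : GL (Fin P.n) (ZMod P.p)) (hX : Rp P r0 m X g) :
    Rp P r0 m (apM P L (ones P.w (m * P.n)) (msk P.w * ones (P.w * P.n) m)
      (msk P.k * ones P.w P.n) c X) ((g * lpG (gam P L) c : GL _ _) : Matrix _ _ _) := by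
  unfold apM lpG
  by_cases hc : c % 2 = 1
  · have : Nat.beq (Nat.mod c 2) 1 = true := by rw [Nat.beq_eq]; exact hc
    rw [this, if_pos hc, Units.val_mul, gam_inv h]
    exact mulM_spec h.1 hX (h.nth _).2.1
  · have : Nat.beq (Nat.mod c 2) 1 = false := by
      rw [← Bool.not_eq_true, Nat.beq_eq]; exact hc
    rw [this, if_neg hc, Units.val_mul, gam_val h]
    exact mulM_spec h.1 hX (h.nth _).1

theorem pevM_spec {P : Par} {L : Lets} (h : Good P L) {r0 m : ℕ} (hm : r0 + m ≤ P.n)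
    (l : List ℕ) : Rp P r0 m (pev (apM P L (ones P.w (m * P.n)) (msk P.w * ones (P.w * P.n) m)
      (msk P.k * ones P.w P.n)) l (idS P r0 m)) ((ppG (gam P L) l : GL _ _) : Matrix _ _ _) := by
  have := pev_spec (R := fun X (g : GL (Fin P.n) (ZMod P.p)) => Rp P r0 m X g)
    (apM_spec h r0 m) l (g := 1) (idS_spec h.1 hm)
  rwa [one_mul] at this

/-- the claim holds in the rows `r0, …, r0 + m - 1` -/
def HoldsR (P : Par) (L : Lets) (r0 m : ℕ) (c : Claim) : Prop :=
  ∀ r : Fin P.n, r0 ≤ r → r < r0 + m →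
    (ppG (gam P L) c.1 : GL _ _).1 r = (ppG (gam P L) c.2 : GL _ _).1 r

/-- test of claims in some rows -/
noncomputable def chkR (P : Par) (L : Lets) (r0 m : ℕ) (l : List Claim) : Bool :=
  andB (Nat.ble (Nat.add r0 m) P.n) <|
  force (ones P.w (Nat.mul m P.n)) fun on =>
  force (Nat.mul (msk P.w) (ones (Nat.mul P.w P.n) m)) fun cm =>
  force (Nat.mul (msk P.k) (ones P.w P.n)) fun lo => force (idS P r0 m) fun X =>
  allL l fun c => eqT P on (pev (apM P L on cm lo) c.1 X) (pev (apM P L on cm lo) c.2 X)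

theorem chkR_spec {P : Par} {L : Lets} (h : Good P L) {r0 m : ℕ} {l : List Claim}
    (hl : chkR P L r0 m l = true) : ∀ c ∈ l, HoldsR P L r0 m c := by
  unfold chkR at hl
  simp only [force_eq, andB_eq, Bool.and_eq_true, Nat.ble_eq] at hl
  intro c hc r h1 h2
  exact eqT_spec h.1 (pevM_spec h hl.1 c.1) (pevM_spec h hl.1 c.2) (allL_spec hl.2 c hc) r h1 h2

theorem HoldsR.append {P : Par} {L : Lets} {r0 m m' : ℕ} {c : Claim} (h : HoldsR P L r0 m c)
    (h' : HoldsR P L (r0 + m) m' c) : HoldsR P L r0 (m + m') c := by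
  intro r h1 h2
  by_cases h3 : r < r0 + m
  · exact h r h1 h3
  · exact h' r (by omega) (by omega)

theorem HoldsR.holds {P : Par} {L : Lets} {c : Claim} (h : HoldsR P L 0 P.n c) :
    HoldsG (gam P L) c :=
  Units.ext (funext fun r => h r (Nat.zero_le _) (by simp))

theorem chkM_spec {P : Par} {L : Lets} (h : Good P L) {l : List Claim}
    (hl : chkR P L 0 P.n l = true) : ∀ c ∈ l, HoldsG (gam P L) c :=
  fun c hc => (chkR_spec h hl c hc).holds

/-- test that claims fail at given entries -/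
noncomputable def chkN (P : Par) (L : Lets) (l : List (Claim × ℕ × ℕ)) : Bool :=
  force (ones P.w (Nat.mul 1 P.n)) fun on =>
  force (Nat.mul (msk P.w) (ones (Nat.mul P.w P.n) 1)) fun cm =>
  force (Nat.mul (msk P.k) (ones P.w P.n)) fun lo =>
  allL l fun q => andB (Nat.blt q.2.1 P.n) <| andB (Nat.blt q.2.2 P.n) <|
    force (idS P q.2.1 1) fun X =>
    neT P q.2.2 (pev (apM P L on cm lo) q.1.1 X) (pev (apM P L on cm lo) q.1.2 X)

theorem chkN_spec {P : Par} {L : Lets} (h : Good P L) {l : List (Claim × ℕ × ℕ)}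
    (hl : chkN P L l = true) : ∀ c ∈ l.map Prod.fst, ¬ HoldsG (gam P L) c := by
  unfold chkN at hl
  simp only [force_eq] at hl
  intro c hc e
  obtain ⟨q, hq, rfl⟩ := List.mem_map.1 hc
  have h1 := allL_spec hl q hq
  simp only [andB_eq, Bool.and_eq_true, Nat.blt_eq] at h1
  exact neT_spec h.1 h1.1 h1.2.1 (pevM_spec h h1.1 q.1.1) (pevM_spec h h1.1 q.1.2) h1.2.2
    (congrArg Units.val e)

end Cfsg.Agent.Spor
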