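import Cfsg.Agent.Lib.Spor.Lift

/-!
A group generated by the image of a permutation group and one more element: order, maximality,
simplicity and centralisers from a double coset enumeration.
-/

set_option autoImplicit false

namespace Cfsg.Agent.Spor

open Cfsg.Agent.PG Equiv Subgroup

section Abstract

variable {Γ : Type*} [Group Γ]

omit [Group Γ] in
theorem ncard_le_sum {ι : Type*} (T : List ι) (D : ι → Set Γ) (n : ι → ℕ)
    (hD : ∀ q ∈ T, (D q).Finite ∧ (D q).ncard ≤ n q) :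
    {x | ∃ q ∈ T, x ∈ D q}.Finite ∧ {x | ∃ q ∈ T, x ∈ D q}.ncard ≤ (T.map n).sum := by
  induction T with
  | nil => simp
  | cons a T ih =>
    have e : {x | ∃ q ∈ a :: T, x ∈ D q} = D a ∪ {x | ∃ q ∈ T, x ∈ D q} := by ext x; simp
    obtain ⟨h1, h2⟩ := ih fun q hq => hD q (List.mem_cons_of_mem _ hq)
    obtain ⟨h3, h4⟩ := hD a List.mem_cons_self
    rw [e, List.map_cons, List.sum_cons]
    exact ⟨h3.union h1, (Set.ncard_union_le _ _).trans (Nat.add_le_add h4 h2)⟩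

theorem card_le_of_cover {S : Type*} [Group S] [Finite S] (φ : S →* Γ) {G : Subgroup Γ}
    (T : List (Γ × ℕ))
    (hT : ∀ q ∈ T, 0 < q.2 ∧ q.2 ≤ Nat.card ((conjIn φ.range q.1⁻¹).comap φ))
    (h : ∀ x ∈ G, ∃ k ∈ φ.range, ∃ q ∈ T, (k * q.1)⁻¹ * x ∈ φ.range) :
    Finite G ∧ Nat.card G ≤ (T.map fun q => Nat.card S / q.2).sum * Nat.card S := by
  obtain ⟨h1, h2⟩ := ncard_le_sum T (fun q => Set.range
    fun p : (S ⧸ (conjIn φ.range q.1⁻¹).comap φ) × S => φ p.1.out * q.1 * φ p.2)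
    (fun q => Nat.card S / q.2 * Nat.card S) fun q hq => ⟨Set.finite_range _, by
      rw [← Set.image_univ]
      refine (Set.ncard_image_le Set.finite_univ).trans ?_
      rw [Set.ncard_univ, Nat.card_prod]
      apply Nat.mul_le_mul_right
      rw [Nat.le_div_iff_mul_le (hT q hq).1,
        card_eq_card_quotient_mul_card_subgroup ((conjIn φ.range q.1⁻¹).comap φ)]
      exact Nat.mul_le_mul_left _ (hT q hq).2⟩
  have h3 : (G : Set Γ) ⊆ _ := fun x hx => by
    obtain ⟨_, ⟨σ, rfl⟩, q, hq, τ, e⟩ := h x hx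
    obtain ⟨m, hm⟩ := QuotientGroup.mk_out_eq_mul ((conjIn φ.range q.1⁻¹).comap φ) σ
    obtain ⟨u, hu⟩ : q.1⁻¹ * φ m * q.1⁻¹⁻¹ ∈ φ.range := m.2
    show x ∈ {x | ∃ q ∈ T, x ∈ Set.range
      fun p : (S ⧸ (conjIn φ.range q.1⁻¹).comap φ) × S => φ p.1.out * q.1 * φ p.2}
    refine ⟨q, hq, ((σ : S ⧸ _), u⁻¹ * τ), ?_⟩
    simp only [hm, map_mul, map_inv, hu, e]
    group
  refine ⟨(h1.subset h3).to_subtype, ?_⟩
  rw [← List.sum_map_mul_right]
  exact (Set.ncard_le_ncard h3 h1).trans h2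

theorem mem_of_odd {G M : Subgroup Γ} (hM : ∀ g ∈ G, ∀ n ∈ M, g * n * g⁻¹ ∈ M) {w u : Γ}
    (hw : w ∈ M) (hu : u ∈ G) {m : ℕ} (h1 : (w * u) ^ (2 * m + 1) = 1) (h2 : u * u = 1) :
    u ∈ M := by
  have h3 : ∀ k : ℕ, (w * u) ^ k * (u ^ k)⁻¹ ∈ M := by
    intro k
    induction k with
    | zero => simp
    | succ k ih =>
      have := M.mul_mem hw (hM u hu _ ih)
      convert this using 1
      rw [pow_succ', pow_succ]; group
  have := M.inv_mem (h3 (2 * m + 1))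
  rwa [h1, one_mul, inv_inv, pow_succ, pow_mul, sq, h2, one_pow, one_mul] at this

theorem simple_of_top {G H : Subgroup Γ} [Finite G] (hle : H ≤ G)
    (hmax : ∀ L, H ≤ L → L ≤ G → L = H ∨ L = G)
    (hcore : ∀ N : Subgroup Γ, N ≤ H → (∀ g ∈ G, ∀ n ∈ N, g * n * g⁻¹ ∈ N) → N = ⊥)
    {p : ℕ} (hp : p.Prime) (hpH : ¬ p ∣ Nat.card H) {y : Γ} (hy : y ∈ G) (hyp : y ^ p = 1)
    (hy1 : y ≠ 1)
    (hcl : ∀ M : Subgroup Γ, (∀ g ∈ G, ∀ n ∈ M, g * n * g⁻¹ ∈ M) → y ∈ M → H ≤ M) :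
    IsSimpleGroup G := by
  have := Fact.mk hp
  have hyH : y ∉ H := fun h => hpH (by
    rw [← orderOf_eq_prime hyp hy1]; exact Subgroup.orderOf_dvd_natCard H h)
  have hn : ∀ N : Subgroup G, N.Normal → ∀ g ∈ G, ∀ n ∈ N.map G.subtype,
      g * n * g⁻¹ ∈ N.map G.subtype := by
    rintro N hN g hg _ ⟨n, hn, rfl⟩
    exact ⟨_, hN.conj_mem n hn ⟨g, hg⟩, rfl⟩
  refine isSimpleGroup_of_coatom (K := H.subgroupOf G)
    (isCoatom_subgroupOf hle (fun e => hyH (e ▸ hy)) hmax) (fun N hN h => ?_) (e := 1) hp ?_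
    (y := ⟨y, hy⟩) (Subtype.ext (by simpa using hyp)) fun N hN hyN => ?_
  · have := hcore (N.map G.subtype) (map_le_iff_le_comap.2 h) (hn N hN)
    rwa [map_eq_bot_iff_of_injective _ G.subtype_injective] at this
  · rwa [Nat.card_congr (subgroupOfEquivOfLe hle).toEquiv]
  · rcases hmax _ (hcl _ (hn N hN) ⟨_, hyN, rfl⟩) (map_subtype_le N) with h | h
    · exact absurd (h ▸ ⟨_, hyN, rfl⟩) hyH
    · rw [eq_top_iff]
      intro x _
      obtain ⟨x', hx', e⟩ : (x : Γ) ∈ N.map G.subtype := h.symm ▸ x.2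
      rwa [← Subtype.ext e]

theorem prime_dvd_card {G : Subgroup Γ} {p : ℕ} (hp : p.Prime) {y : Γ} (hy : y ∈ G)
    (hyp : y ^ p = 1) (hy1 : y ≠ 1) : p ∣ Nat.card G := by
  have := Fact.mk hp
  rw [← orderOf_eq_prime hyp hy1]
  exact Subgroup.orderOf_dvd_natCard G hy

theorem step_dvd {X : Subgroup Γ} {p : ℕ} (hp : p.Prime) {y : Γ}
    (hy : y ∈ normalizer (X : Set Γ)) (hyp : y ^ p = 1) (hyX : y ∉ X) :
    p * Nat.card X ∣ Nat.card ↥(X ⊔ zpowers y) := by
  have := Fact.mk hp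
  have hN : (X.subgroupOf (X ⊔ zpowers y)).Normal := normal_subgroupOf_of_le_normalizer
    (sup_le le_normalizer (zpowers_le_of_mem hy))
  rw [card_eq_card_quotient_mul_card_subgroup (X.subgroupOf (X ⊔ zpowers y)),
    Nat.card_congr (subgroupOfEquivOfLe le_sup_left).toEquiv]
  apply Nat.mul_dvd_mul_right
  let y' : ↥(X ⊔ zpowers y) := ⟨y, mem_sup_right (mem_zpowers y)⟩
  have h1 : orderOf (y' : _ ⧸ X.subgroupOf (X ⊔ zpowers y)) = p := by
    apply orderOf_eq_prime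
    · rw [← QuotientGroup.mk_pow, show y' ^ p = 1 from Subtype.ext hyp]; rfl
    · rw [Ne, QuotientGroup.eq_one_iff]; exact hyX
  rw [← h1]
  exact orderOf_dvd_natCard _

theorem cube_dvd_card {G : Subgroup Γ} [Finite G] {p : ℕ} (hp : p.Prime) {a b c : Γ} (ha : a ∈ G)
    (hb : b ∈ G) (hap : a ^ p = 1) (hbp : b ^ p = 1) (hcp : c ^ p = 1) (hc1 : c ≠ 1)
    (hac : a * c = c * a) (hbc : b * c = c * b) (h : b * a = c * a * b) :
    p ^ 3 ∣ Nat.card G := by
  have := Fact.mk hp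
  have hc : c ∈ G := by
    have : c = b * a * b⁻¹ * a⁻¹ := by rw [h]; group
    rw [this]; exact G.mul_mem (G.mul_mem (G.mul_mem hb ha) (G.inv_mem hb)) (G.inv_mem ha)
  have hab : b * a ≠ a * b := fun e => hc1 (by
    rw [e, mul_assoc] at h; simpa using h.symm)
  have l1 : zpowers c ⊔ zpowers a ≤ G := sup_le (zpowers_le_of_mem hc) (zpowers_le_of_mem ha)
  have f1 : Finite ↥(zpowers c ⊔ zpowers a) := finite_of_le l1
  have f0 : Finite (zpowers c) := finite_of_le (zpowers_le_of_mem hc)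
  have d1 := step_dvd (X := zpowers c) hp (y := a)
    (centralizer_le_normalizer _ (mem_centralizer_iff.2 fun x hx => by
      obtain ⟨k, rfl⟩ := hx
      exact (Commute.zpow_left hac.symm k).eq)) hap (fun hx => by
      obtain ⟨k, rfl⟩ := hx
      exact hab (Commute.zpow_right hbc k).eq)
  have d2 := step_dvd (X := zpowers c ⊔ zpowers a) hp (y := b) (mem_normalizer_fintype (by
      have : zpowers c ⊔ zpowers a ≤ conjIn (zpowers c ⊔ zpowers a) b := by
        refine sup_le (zpowers_le_of_mem ?_) (zpowers_le_of_mem ?_)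
        · rw [mem_conjIn, hbc, mul_inv_cancel_right]; exact mem_sup_left (mem_zpowers c)
        · rw [mem_conjIn, h, mul_inv_cancel_right]
          exact mul_mem_sup (mem_zpowers c) (mem_zpowers a)
      exact fun n hn => this hn)) hbp (fun hx => by
      have : zpowers c ⊔ zpowers a ≤ centralizer {a} :=
        sup_le (zpowers_le_of_mem (mem_centralizer_singleton_iff.2 hac.symm))
          (zpowers_le_of_mem (mem_centralizer_singleton_iff.2 rfl))
      exact hab (mem_centralizer_singleton_iff.1 (this hx)))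
  rw [Nat.card_zpowers, orderOf_eq_prime hcp hc1] at d1
  calc p ^ 3 = p * (p * p) := by ring
    _ ∣ _ := Nat.mul_dvd_mul_left p d1
    _ ∣ _ := d2
    _ ∣ _ := card_dvd_of_le (sup_le l1 (zpowers_le_of_mem hb))

end Abstract

section Perms

variable {N : ℕ} {A : List Net}

/-- a chain of orbits for a strong generating set; a level is `(β, start, rounds, size)` -/
noncomputable def lbQ (A : List Net) (l : ℕ) (gens : List (List ℕ))
    (lv : List (ℕ × ℕ × ℕ × ℕ)) : List ℕ → Bool :=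
  List.rec (motive := fun _ => List ℕ → Bool) (fun _ => true)
    (fun q _ ih fx => andB (fixB A (gens.drop q.2.1) fx) <|
      andB (force (orb A (gens.drop q.2.1) q.2.2.1 (Nat.shiftLeft 1 q.1))
        fun O => cardB l O q.2.2.2) <| ih (q.1 :: fx)) lv

/-- the product of the sizes -/
def lvProd (lv : List (ℕ × ℕ × ℕ × ℕ)) : ℕ := (lv.map fun q => q.2.2.2).prod

theorem lbQ_spec (hA : okA N A = true) {l : ℕ} {gens : List (List ℕ)} {Q : Subgroup (Perm ℕ)}
    [Finite Q] (hg : ∀ g ∈ gens, pp A g ∈ Q) {lv : List (ℕ × ℕ × ℕ × ℕ)} {fx : List ℕ}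
    (h : lbQ A l gens lv fx = true) : lvProd lv ≤ Nat.card ↥(Q ⊓ fixL fx) := by
  induction lv generalizing fx with
  | nil =>
    have : Finite ↥(Q ⊓ fixL fx) := finite_of_le inf_le_left
    exact Nat.card_pos
  | cons q lv ih =>
    have h' : (andB (fixB A (gens.drop q.2.1) fx) <|
      andB (force (orb A (gens.drop q.2.1) q.2.2.1 (Nat.shiftLeft 1 q.1))
        fun O => cardB l O q.2.2.2) <| lbQ A l gens lv (q.1 :: fx)) = true := h
    simp only [andB_eq, force_eq, Bool.and_eq_true] at h'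
    obtain ⟨a1, a3, a4⟩ := h'
    have e : Q ⊓ fixL (q.1 :: fx) = Q ⊓ fixL fx ⊓ stabB (Nat.shiftLeft 1 q.1) := by
      ext σ
      simp only [mem_inf, mem_fixL, stabB_shl, List.forall_mem_cons]
      tauto
    have b3 := ih a4
    rw [e] at b3
    unfold lvProd
    rw [card_eq_orbit_mul (Q ⊓ fixL fx) q.1, List.map_cons, List.prod_cons]
    apply Nat.mul_le_mul _ b3
    rw [← cardB_spec a3]
    have hfin : {i | ∃ σ ∈ Q ⊓ fixL fx, σ q.1 = i}.Finite := by
      have : Finite ↥(Q ⊓ fixL fx) := finite_of_le inf_le_left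
      have e : {i | ∃ σ ∈ Q ⊓ fixL fx, σ q.1 = i} =
          Set.range (fun σ : ↥(Q ⊓ fixL fx) => (σ : Perm ℕ) q.1) := by
        ext i; simp only [Set.mem_ofPred_eq, Set.mem_range, Subtype.exists, exists_prop]
      rw [e]; exact Set.finite_range _
    apply Set.ncard_le_ncard _ hfin
    intro i hi
    obtain ⟨σ, hσ, j, hj, rfl⟩ := reach_orb hA (Q := Q ⊓ fixL fx) (fun g hg' =>
      ⟨hg g (List.mem_of_mem_drop hg'), fixB_spec hA a1 g hg'⟩) _ _ i hi
    rw [testBit_shl_one] at hj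
    exact ⟨σ, hσ, by rw [hj]⟩

theorem lbQ_nil (hA : okA N A = true) {l : ℕ} {gens : List (List ℕ)} {Q : Subgroup (Perm ℕ)}
    [Finite Q] (hg : ∀ g ∈ gens, pp A g ∈ Q) {lv : List (ℕ × ℕ × ℕ × ℕ)}
    (h : lbQ A l gens lv [] = true) : lvProd lv ≤ Nat.card Q := by
  have := lbQ_spec hA hg h
  rwa [show Q ⊓ fixL [] = Q from inf_eq_left.2 fun σ _ b hb => by cases hb] at this

/-- the stabiliser of `β` is generated by the products `gens` -/
theorem stab_le (hA : okA N A = true) {l t β r s m : ℕ} (ho : orbCardB A l t β r s = true)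
    (hc : Nat.card (K A t) = s * m) {gens : List (List ℕ)} (hg : allL gens (pge t) = true)
    {lv : List (ℕ × ℕ × ℕ × ℕ)} (h : lbQ A l gens lv [β] = true) (hm : lvProd lv = m)
    {X : Subgroup (Perm ℕ)} (hX : ∀ g ∈ gens, pp A g ∈ X) :
    ∀ σ ∈ K A t, σ β = β → σ ∈ X := by
  have := finite_K hA t
  have : Finite ↥(K A t ⊓ X) := finite_of_le inf_le_left
  have h1 := lbQ_spec hA (Q := K A t ⊓ X) (fun g hg' => ⟨pp_mem (allL_spec hg g hg'), hX g hg'⟩) h
  have h2 := card_eq_orbit_mul (K A t) β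
  have h3 : 0 < s * m := hc ▸ Nat.card_pos
  rw [orbCardB_spec hA ho, hc] at h2
  have h4 := Nat.eq_of_mul_eq_mul_left (Nat.pos_of_mul_pos_right h3) h2
  have : Finite ↥(K A t ⊓ stabB (Nat.shiftLeft 1 β)) := finite_of_le inf_le_left
  have h5 : K A t ⊓ X ⊓ fixL [β] = K A t ⊓ stabB (Nat.shiftLeft 1 β) :=
    eq_of_le_of_card_ge (fun σ hσ => ⟨hσ.1.1, stabB_shl.2 (hσ.2 β List.mem_cons_self)⟩)
      (by rw [← h4, ← hm]; exact h1)
  intro σ hσ hβ
  have : σ ∈ K A t ⊓ X ⊓ fixL [β] := h5 ▸ ⟨hσ, stabB_shl.2 hβ⟩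
  exact this.1.2

theorem stabIs_of_card (hA : okA N A = true) {l t β r s t' : ℕ} (ho : orbCardB A l t β r s = true)
    (hle : t ≤ t') (hf : invB A (kgens A t') (Nat.shiftLeft 1 β) = true)
    (hc : Nat.card (K A t) = s * Nat.card (K A t')) : StabIs A t β t' := by
  have hl : A.length ≤ 128 := by
    unfold orbCardB at ho
    simp only [andB_eq, Bool.and_eq_true, Nat.ble_eq] at ho
    exact ho.1
  have := finite_K hA t
  have h2 := card_eq_orbit_mul (K A t) β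
  have h3 : 0 < s * Nat.card (K A t') := hc ▸ Nat.card_pos
  rw [orbCardB_spec hA ho, hc] at h2
  have h4 := Nat.eq_of_mul_eq_mul_left (Nat.pos_of_mul_pos_right h3) h2
  have : Finite ↥(K A t ⊓ stabB (Nat.shiftLeft 1 β)) := finite_of_le inf_le_left
  have h5 : K A t' = K A t ⊓ stabB (Nat.shiftLeft 1 β) :=
    eq_of_le_of_card_ge (le_inf (K_mono A hle) (K_le_stabB hA hl hf)) h4.ge
  exact ⟨hle, fun σ hσ => stabB_shl.1 (h5 ▸ hσ).2, fun σ h1 h2 => h5 ▸ ⟨h1, stabB_shl.2 h2⟩⟩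

/-- the orbits under `ws` of the images of `β` under `gs` cover the orbit of `β`, but `β` -/
noncomputable def subOK (A : List Net) (t β r r1 : ℕ) (ws : List (List ℕ)) (gs : List ℕ) : Bool :=
  andB (Nat.ble A.length 128) <| andB (allL gs (wge t)) <| andB (allL ws (pge t)) <|
  force (korb A t β r) fun O => andB (closedB A t β O)
    (subB O (Nat.lor (Nat.shiftLeft 1 β) (orb A ws r1
      (orL (gs.map fun g => papp1 A [2 * g + 1] (Nat.shiftLeft 1 β))))))

theorem sub_le_stab (hA : okA N A = true) {t β r r1 : ℕ} {ws : List (List ℕ)} {gs : List ℕ}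
    (h : subOK A t β r r1 ws gs = true) {L : Subgroup (Perm ℕ)}
    (h1 : ∀ σ ∈ K A t, σ β = β → σ ∈ L) (h2 : ∀ w ∈ ws, pp A w ∈ L) (h3 : ∀ g ∈ gs, wp A g ∉ L) :
    ∀ σ ∈ K A t, σ ∈ L → σ β = β := by
  unfold subOK at h
  simp only [andB_eq, force_eq, Bool.and_eq_true, Nat.ble_eq] at h
  obtain ⟨a1, a2, a3, a4, a5⟩ := h
  intro σ hσ hL
  have b1 := subB_spec a5 (closedB_spec hA a1 a4 hσ)
  have b2 : ∀ a b : ℕ, Nat.lor a b = a ||| b := fun _ _ => rfl
  rw [b2, Nat.testBit_or, Bool.or_eq_true, testBit_shl_one] at b1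
  refine b1.resolve_right fun b1 => ?_
  obtain ⟨k, hk, p, hp, e⟩ := reach_orb hA (Q := K A t ⊓ L)
    (fun w hw => ⟨pp_mem (allL_spec a3 w hw), h2 w hw⟩) _ _ _ b1
  obtain ⟨_, hv, hp'⟩ := testBit_orL hp
  obtain ⟨g, hg, rfl⟩ := List.mem_map.1 hv
  rw [testBit_papp1 hA, testBit_shl_one, pp_cons, pp_nil, mul_one, sp_odd,
    Perm.inv_eq_iff_eq] at hp'
  apply h3 g hg
  have b3 := h1 (σ⁻¹ * (k * wp A g)) (mul_mem (inv_mem hσ)
    (mul_mem hk.1 (wp_mem (allL_spec a2 g hg))))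
    (by rw [Perm.mul_apply, Perm.mul_apply, ← hp', e]; simp)
  simpa using L.mul_mem (L.inv_mem hk.2) (L.mul_mem hL b3)

/-- the word `q.1` does not commute with the product `z`, seen at the point `q.2` -/
noncomputable def ncB (A : List Net) (z : List ℕ) (q : ℕ × ℕ) : Bool :=
  Bool.not (Nat.beq (papp1 A ((2 * q.1) :: z) (Nat.shiftLeft 1 q.2))
    (papp1 A (z ++ [2 * q.1]) (Nat.shiftLeft 1 q.2)))

theorem ncB_spec (hA : okA N A = true) {z : List ℕ} {q : ℕ × ℕ} (h : ncB A z q = true) :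
    wp A q.1 ∉ centralizer {pp A z} := by
  intro e
  rw [mem_centralizer_singleton_iff] at e
  unfold ncB at h
  have : papp1 A ((2 * q.1) :: z) (Nat.shiftLeft 1 q.2) =
      papp1 A (z ++ [2 * q.1]) (Nat.shiftLeft 1 q.2) := by
    apply Nat.eq_of_testBit_eq
    intro i
    rw [testBit_papp1 hA, testBit_papp1 hA, pp_cons, pp_append, pp_cons, pp_nil, mul_one, sp_even,
      e]
  rw [this] at h
  simp at h

/-- claims that the products `ws` commute with `z` -/
noncomputable def cmClaims (z : List ℕ) (ws : List (List ℕ)) : List Claim :=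
  ws.map fun w => (w ++ z, z ++ w)

theorem cm_of_claims {z : List ℕ} {ws : List (List ℕ)} (h : ∀ c ∈ cmClaims z ws, Holds A c) :
    ∀ w ∈ ws, pp A w ∈ centralizer {pp A z} := fun w hw => by
  have := h _ (List.mem_map.2 ⟨w, hw, rfl⟩)
  unfold Holds at this
  rwa [pp_append, pp_append, ← mem_centralizer_singleton_iff] at this

end Perms

section Top

variable {Γ : Type*} [Group Γ] {N : ℕ} {A : List Net} {γ : ℕ → Γ} {t : ℕ}

/-- the inverse of a product -/
def invP (l : List ℕ) : List ℕ := (l.map fun s => Nat.xor s 1).reverse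

theorem ppG_invP (γ : ℕ → Γ) (l : List ℕ) : ppG γ (invP l) = (ppG γ l)⁻¹ := by
  induction l with
  | nil => simp [invP]
  | cons s l ih =>
    unfold invP at ih ⊢
    rw [List.map_cons, List.reverse_cons, ppG_append, ih, ppG_cons, ppG_cons, ppG_nil, mul_one,
      mul_inv_rev]
    congr 1
    exact lpG_xor_one' (wpG γ) s
where
  lpG_xor_one' (δ : ℕ → Γ) (c : ℕ) : lpG δ (c ^^^ 1) = (lpG δ c)⁻¹ := by
    have h1 : (c ^^^ 1) / 2 = c / 2 := by
      rw [Nat.xor_div_two]; simp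
    have h2 : (c ^^^ 1) % 2 = 1 ↔ ¬ c % 2 = 1 := by
      rw [Nat.xor_mod_two_eq_one]; simp
    unfold lpG
    rw [h1]
    by_cases hc : c % 2 = 1
    · rw [if_neg (by rw [h2]; simpa using hc), if_pos hc, inv_inv]
    · rw [if_pos (h2.2 hc), if_neg hc]

/-- the claim that `x a x⁻¹` commutes with `b` -/
def nmClaim (a b x : List ℕ) : Claim := (x ++ a ++ invP x ++ b, b ++ (x ++ a ++ invP x))

theorem holds_nm {a b x : List ℕ} : HoldsG γ (nmClaim a b x) ↔
    Commute (ppG γ x * ppG γ a * (ppG γ x)⁻¹) (ppG γ b) := by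
  unfold HoldsG nmClaim
  simp only [ppG_append, ppG_invP]
  rfl

theorem wpFG_mem_of_win {Q : Subgroup Γ} {m f w : ℕ} (hQ : ∀ j, m.testBit j = true → γ j ∈ Q)
    (h : winF m f w = true) : wpFG γ f w ∈ Q := by
  induction f generalizing w with
  | zero => exact one_mem _
  | succ f ih =>
    show (if w ≤ 1 then 1 else lpG γ (w % 256) * wpFG γ f (w / 256)) ∈ Q
    split_ifs with hw
    · exact one_mem _
    · have h' : iteB (Nat.ble w 1) true
        (andB (bit m (w % 256 / 2)) (winF m f (w / 256))) = true := h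
      have : Nat.ble w 1 = false := by rw [← Bool.not_eq_true, Nat.ble_eq]; exact hw
      rw [this, iteB_false, andB_eq, Bool.and_eq_true, bit_eq] at h'
      refine mul_mem ?_ (ih h'.2)
      have h3 := hQ _ h'.1
      unfold lpG
      split_ifs
      · exact inv_mem h3
      · exact h3

theorem card_stabD (φ : K A t →* Γ) (g : Γ) :
    Nat.card (stabD φ g) = Nat.card ((conjIn φ.range g⁻¹).comap φ) :=
  card_map_of_injective (K A t).subtype_injective

/-- lower bound for the stabiliser of a representative -/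
noncomputable def lbR (A : List Net) (l : ℕ) (q : Rep × List (ℕ × ℕ × ℕ × ℕ)) : Bool :=
  andB (Nat.blt 0 (lvProd q.2)) (lbQ A l (q.1.ms.map fun m => [2 * m.1]) q.2 [])

/-- the data of a double coset enumeration are correct -/
structure TopOK (A : List Net) (γ : ℕ → Γ) (t t'' β O : ℕ) (cj : List ℕ) (reps : List Rep) :
    Prop where
  next : StabIs A (t + 1) β t''
  shape : topShape A t t'' β O cj reps = true
  rep : ∀ R ∈ reps, repOK A (t + 1) β O R = true
  claims : ∀ c ∈ dcClaims t t'' cj reps, HoldsG γ c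

variable {φ : K A (t + 1) →* Γ} {t'' β O : ℕ} {cj : List ℕ} {reps : List Rep}

theorem top_card_le (hA : okA N A = true) (hφ : IsLift A γ (t + 1) φ)
    (h : TopOK A γ t t'' β O cj reps) {l : ℕ} {lvs : List (List (ℕ × ℕ × ℕ × ℕ))}
    (hlen : lvs.length = reps.length) (hlb : ∀ q ∈ reps.zip lvs, lbR A l q = true) {m : ℕ}
    (hm : Nat.card (K A (t + 1)) = m) :
    Finite (KG γ t) ∧ Nat.card (KG γ t) ≤ (lvs.map fun lv => m / lvProd lv).sum * m := by
  have := finite_K hA (t + 1)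
  have h1 := card_le_of_cover φ (G := KG γ t)
    ((reps.zip lvs).map fun q => (wpG γ q.1.g, lvProd q.2)) ?_ ?_
  · rwa [List.map_map, hm, show ((fun q : Γ × ℕ => m / q.2) ∘
      fun q : Rep × List (ℕ × ℕ × ℕ × ℕ) => (wpG γ q.1.g, lvProd q.2)) =
      (fun lv => m / lvProd lv) ∘ Prod.snd from rfl, ← List.map_map,
      List.map_snd_zip hlen.le] at h1
  · intro q hq
    obtain ⟨q, hq', rfl⟩ := List.mem_map.1 hq
    have h2 := hlb q hq'
    unfold lbR at h2
    rw [andB_eq, Bool.and_eq_true, Nat.blt_eq] at h2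
    have hR := (List.of_mem_zip hq').1
    have : Finite (stabD φ (wpG γ q.1.g)) := finite_of_le (stabD_le _ _)
    exact ⟨h2.1, card_stabD φ _ ▸
      lbQ_nil hA (ms_mem_stabD hφ hR (h.rep _ hR) h.claims) h2.2⟩
  · intro x hx
    obtain ⟨k, hk, w, hw, e⟩ := dc_cosetsG hA hφ h.next h.shape h.rep h.claims x hx
    rw [← List.map_fst_zip hlen.ge, List.map_map] at hw
    obtain ⟨q, hq, rfl⟩ := List.mem_map.1 hw
    exact ⟨k, hφ.range ▸ hk, _, List.mem_map.2 ⟨q, hq, rfl⟩, hφ.range ▸ e⟩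

/-- membership test -/
noncomputable def memB (x : ℕ) (l : List ℕ) : Bool :=
  List.rec (motive := fun _ => Bool) false (fun a _ ih => orB (Nat.beq a x) ih) l

theorem memB_spec {x : ℕ} {l : List ℕ} (h : memB x l = true) : x ∈ l := by
  induction l with
  | nil => cases h
  | cons a l ih =>
    have h' : orB (Nat.beq a x) (memB x l) = true := h
    rw [orB_eq, Bool.or_eq_true, Nat.beq_eq] at h'
    exact List.mem_cons.2 (h'.imp Eq.symm ih)

/-- steps `(g, c, l)`: the known word `c` is the product `l` of old words and `g` -/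
noncomputable def mxRun (t : ℕ) (l : List (ℕ × ℕ × List ℕ)) (gs : List ℕ) : List ℕ → Bool :=
  List.rec (motive := fun _ => List ℕ → Bool) (fun kn => allL gs fun g => memB g kn)
    (fun q _ ih kn => andB (memB q.2.1 kn) <| andB (allL q.2.2 fun s =>
      orB (wge (t + 1) (s / 2)) (Nat.beq (s / 2) q.1)) (ih (q.1 :: kn))) l

/-- the claims of the steps -/
def mxClaims (l : List (ℕ × ℕ × List ℕ)) : List Claim := l.map fun q => ([2 * q.2.1], q.2.2)

theorem mxRun_spec {l : List (ℕ × ℕ × List ℕ)} {gs kn : List ℕ} (h : mxRun t l gs kn = true)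
    (hc : ∀ c ∈ mxClaims l, HoldsG γ c) {L : Subgroup Γ} (hL : KG γ (t + 1) ≤ L)
    (hk : ∀ g ∈ kn, wpG γ g ∈ L → γ t ∈ L) : ∀ g ∈ gs, wpG γ g ∈ L → γ t ∈ L := by
  induction l generalizing kn with
  | nil => exact fun g hg => hk g (memB_spec (allL_spec h g hg))
  | cons q l ih =>
    have h' : (andB (memB q.2.1 kn) <| andB (allL q.2.2 fun s =>
      orB (wge (t + 1) (s / 2)) (Nat.beq (s / 2) q.1)) (mxRun t l gs (q.1 :: kn))) = true := h
    simp only [andB_eq, Bool.and_eq_true] at h'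
    refine ih h'.2.2 (fun c hc' => hc c (List.mem_cons_of_mem _ hc')) fun g hg hg' => ?_
    rcases List.mem_cons.1 hg with rfl | hg
    · apply hk _ (memB_spec h'.1)
      have := hc _ List.mem_cons_self
      unfold HoldsG at this
      simp only [ppG_cons, ppG_nil, mul_one, spG_even] at this
      rw [this]
      refine list_prod_mem fun x hx => ?_
      obtain ⟨s, hs, rfl⟩ := List.mem_map.1 hx
      have h3 := allL_spec h'.2.1 s hs
      rw [orB_eq, Bool.or_eq_true, Nat.beq_eq] at h3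
      have h4 : wpG γ (s / 2) ∈ L := h3.elim (fun h => hL (wpG_mem h)) fun h => h ▸ hg'
      unfold spG
      split_ifs
      · exact inv_mem h4
      · exact h4
    · exact hk g hg hg'

theorem top_max (hA : okA N A = true) (hφ : IsLift A γ (t + 1) φ)
    (h : TopOK A γ t t'' β O cj reps) {l : List (ℕ × ℕ × List ℕ)}
    (hm : mxRun t l ((reps.map Rep.g).drop 1) [256 + 2 * t] = true)
    (hc : ∀ c ∈ mxClaims l, HoldsG γ c) :
    ∀ L, KG γ (t + 1) ≤ L → L ≤ KG γ t → L = KG γ (t + 1) ∨ L = KG γ t := by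
  intro L h1 h2
  by_cases hL : L ≤ KG γ (t + 1)
  · exact Or.inl (le_antisymm hL h1)
  right
  obtain ⟨x, hx, hx'⟩ := SetLike.not_le_iff_exists.1 hL
  obtain ⟨k, hk, w, hw, e⟩ := dc_cosetsG hA hφ h.next h.shape h.rep h.claims x (h2 hx)
  have hs := h.shape
  unfold topShape at hs
  simp only [andB_eq, Bool.and_eq_true, Nat.ble_eq, Nat.beq_eq, Nat.blt_eq] at hs
  rcases mem_head_or_drop hw with h3 | h3
  · rw [h3, hs.2.2.2.2.1, wpG_one, mul_one] at e
    exact absurd (by simpa using mul_mem hk e) hx'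
  have h4 : γ t ∈ L := mxRun_spec hm hc h1 (fun g hg hg' => by
    rw [List.mem_singleton.1 hg, wpG_letter γ (by omega)] at hg'
    unfold lpG at hg'
    rwa [if_neg (by omega), show 2 * t / 2 = t by omega] at hg') w h3 (by
    simpa [mul_assoc] using mul_mem (inv_mem (h1 hk)) (mul_mem hx (inv_mem (h1 e))))
  refine le_antisymm h2 (KG_le fun j hj => ?_)
  rcases Nat.eq_or_lt_of_le hj with rfl | h5
  · exact h4
  · exact h1 (mem_KG γ h5)

/-- claims refuting that `γ t * g * (γ t)⁻¹` is old -/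
def coreClaims (t : ℕ) (a b : List ℕ) (gs : List (ℕ × ℕ × ℕ)) : List Claim :=
  gs.map fun q => nmClaim a b [2 * q.2.1, gw t, 2 * q.1, gw t + 1, 2 * q.2.2]

theorem top_core (hA : okA N A = true) (hφ : IsLift A γ (t + 1) φ)
    (h : TopOK A γ t t'' β O cj reps) {a b : List ℕ}
    (hab : ∀ x ∈ KG γ (t + 1), Commute (x * ppG γ a * x⁻¹) (ppG γ b)) {r r1 : ℕ}
    {gs : List (ℕ × ℕ × ℕ)}
    (hs : subOK A (t + 1) β r r1 (kgens A t'') (gs.map Prod.fst) = true)
    (hw : allL gs (fun q => andB (wge (t + 1) q.2.1) (wge (t + 1) q.2.2)) = true)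
    (hc : ∀ c ∈ coreClaims t a b gs, ¬ HoldsG γ c) {M : Subgroup Γ} (hM : M ≤ KG γ (t + 1))
    (hM' : ∀ g ∈ KG γ t, ∀ n ∈ M, g * n * g⁻¹ ∈ M) (σ : K A (t + 1)) (hσ : φ σ ∈ M) :
    ∀ i ∈ {i | ∃ τ ∈ K A (t + 1), τ β = i}, (σ : Perm ℕ) i = i := by
  have hsh := h.shape
  unfold topShape at hsh
  simp only [andB_eq, Bool.and_eq_true, Nat.ble_eq, Nat.beq_eq, Nat.blt_eq] at hsh
  have hK : ∀ σ ∈ K A t'', σ ∈ stabD φ (γ t)⁻¹ := fun σ hσ =>
    mem_stabD.2 ⟨K_mono A h.next.1 hσ, by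
      rw [inv_inv, hφ.range]
      exact conj_of_cj hφ h.next.1 h.shape h.claims (hφ.image h.next.1 hσ)⟩
  have key := sub_le_stab hA hs (L := stabD φ (γ t)⁻¹) (fun σ h1 h2 => hK σ (h.next.2.2 σ h1 h2))
    (fun w hw => hK _ (kgens_mem hsh.1 t'' w hw)) fun g hg hg' => by
      obtain ⟨q, hq, rfl⟩ := List.mem_map.1 hg
      obtain ⟨h1, h2⟩ := mem_stabD.1 hg'
      have h3 : wge (t + 1) q.1 = true := by
        unfold subOK at hs
        simp only [andB_eq, Bool.and_eq_true] at hs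
        exact allL_spec hs.2.1 _ hg
      have h4 := allL_spec hw q hq
      rw [andB_eq, Bool.and_eq_true] at h4
      rw [hφ.wp h3, inv_inv, hφ.range] at h2
      apply hc _ (List.mem_map.2 ⟨q, hq, rfl⟩)
      rw [holds_nm]
      apply hab
      simp only [ppG_cons, ppG_nil, mul_one, spG_even, spG_gw γ hsh.2.1, spG_gw_inv γ hsh.2.1]
      have := mul_mem (wpG_mem (γ := γ) h4.1) (mul_mem h2 (wpG_mem h4.2))
      simpa only [mul_assoc] using this
  rintro _ ⟨τ, hτ, rfl⟩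
  have h1 : φ ((⟨τ, hτ⟩ : K A (t + 1))⁻¹ * σ * ⟨τ, hτ⟩⁻¹⁻¹) ∈ M := by
    rw [map_mul, map_mul, map_inv φ (_⁻¹)]
    exact hM' _ (KG_mono γ (Nat.le_succ t) (hφ.range ▸ ⟨_, rfl⟩)) _ hσ
  have h2 := key _ (Subtype.prop ((⟨τ, hτ⟩ : K A (t + 1))⁻¹ * σ * ⟨τ, hτ⟩⁻¹⁻¹))
    (mem_stabD.2 ⟨Subtype.prop _, by
    rw [inv_inv (γ t), hφ.range]
    exact hM (hM' _ (mem_KG γ le_rfl) _ h1)⟩)
  have h3 : (τ⁻¹ * σ * τ⁻¹⁻¹) β = β := h2
  rwa [inv_inv, Perm.mul_apply, Perm.mul_apply, Perm.inv_eq_iff_eq] at h3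

theorem bot_of_fix {t : ℕ} {φ : K A t →* Γ} (hφ : IsLift A γ t φ) {B : Set ℕ}
    (hf : FixTriv (K A t) B) {M : Subgroup Γ} (hM : M ≤ KG γ t)
    (h : ∀ σ : K A t, φ σ ∈ M → ∀ i ∈ B, (σ : Perm ℕ) i = i) : M = ⊥ := by
  rw [eq_bot_iff]
  intro x hx
  obtain ⟨σ, rfl⟩ : x ∈ φ.range := hφ.range ▸ hM hx
  rw [show σ = 1 from Subtype.ext (hf _ σ.2 (h σ hx)), map_one]
  exact one_mem _

theorem ncl_lift {t : ℕ} {φ : K A t →* Γ} (hφ : IsLift A γ t φ) {u : List ℕ} (hu : pge t u = true)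
    (h : ∀ M : Subgroup (Perm ℕ), (∀ σ ∈ K A t, ∀ n ∈ M, σ * n * σ⁻¹ ∈ M) → pp A u ∈ M →
      K A t ≤ M) {M : Subgroup Γ} (hM : ∀ g ∈ KG γ t, ∀ n ∈ M, g * n * g⁻¹ ∈ M)
    (huM : ppG γ u ∈ M) : KG γ t ≤ M := by
  have := h ((M.comap φ).map (K A t).subtype) (by
    rintro σ hσ _ ⟨n, hn, rfl⟩
    refine ⟨⟨σ, hσ⟩ * n * ⟨σ, hσ⟩⁻¹, ?_, rfl⟩
    show φ _ ∈ M
    rw [map_mul, map_mul, map_inv]
    exact hM _ (hφ.range ▸ ⟨_, rfl⟩) _ hn) ⟨⟨_, pp_mem hu⟩, by
      show φ _ ∈ M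
      rwa [hφ.pp hu], rfl⟩
  rw [← hφ.range]
  rintro _ ⟨σ, rfl⟩
  obtain ⟨τ, h1, h2⟩ := this σ.2
  rwa [← Subtype.ext h2]

theorem dvd_of_claims {p : ℕ} (hp : p.Prime) {y : List ℕ} (hy : pge t y = true)
    (h1 : HoldsG γ (powP y p, [])) (h2 : ¬ HoldsG γ (y, [])) : p ∣ Nat.card (KG γ t) :=
  prime_dvd_card hp (ppG_mem hy) (by rw [← ppG_powP]; exact h1) h2

/-- data for the centraliser in one double coset -/
structure CRep : Type where
  /-- pairs `(k, k')` refuted by a commutator -/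
  bad : List (ℕ × ℕ)
  /-- triples `(k, c, u)` with `k * g = c * u` -/
  good : List (ℕ × ℕ × ℕ)
  /-- rounds -/
  r : ℕ

/-- structural test for the centraliser in one double coset -/
noncomputable def crepOK (A : List Net) (t' β O m : ℕ) (q : Rep × CRep) : Bool :=
  andB (allL q.2.bad fun x => andB (wge t' x.1) (wge t' x.2)) <|
  andB (allL q.2.good fun x => andB (wge t' x.1) (andB (winF m x.2.1 x.2.1) (wge t' x.2.2))) <|
  subB O (orb A (q.1.ms.map fun x => [2 * x.1]) q.2.r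
    (orL ((q.2.bad.map Prod.fst ++ q.2.good.map Prod.fst).map
      fun k => papp1 A [2 * k] (Nat.shiftLeft 1 β))))

/-- the claims to refute -/
def badClaims (z b : List ℕ) (l : List (Rep × CRep)) : List Claim :=
  l.flatMap fun q => q.2.bad.map fun x => nmClaim z b [2 * x.2, 2 * q.1.g + 1, 2 * x.1 + 1]

/-- the claims to prove -/
def goodClaims (l : List (Rep × CRep)) : List Claim :=
  l.flatMap fun q => q.2.good.map fun x => ([2 * x.1, 2 * q.1.g], [2 * x.2.1, 2 * x.2.2])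

theorem top_cent (hA : okA N A = true) (hφ : IsLift A γ (t + 1) φ)
    (h : TopOK A γ t t'' β O cj reps) {z b : List ℕ}
    (hzb : ∀ x ∈ KG γ (t + 1), Commute (x * ppG γ z * x⁻¹) (ppG γ b)) {D : Subgroup Γ}
    (hD : ∀ x ∈ D, Commute x (ppG γ z)) (hD' : ∀ x ∈ KG γ (t + 1), Commute x (ppG γ z) → x ∈ D)
    {β' O' m : ℕ} (hm : ∀ j, m.testBit j = true → γ j ∈ D)
    (hβ : ∀ σ : K A (t + 1), (σ : Perm ℕ) β' = β' → Commute (φ σ) (ppG γ z))
    (hO : closedB A (t + 1) β' O' = true) {cs : List CRep} (hlen : cs.length = reps.length)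
    (hr : ∀ q ∈ reps.zip cs, crepOK A (t + 1) β' O' m q = true)
    (h1 : ∀ c ∈ badClaims z b (reps.zip cs), ¬ HoldsG γ c)
    (h2 : ∀ c ∈ goodClaims (reps.zip cs), HoldsG γ c) :
    ∀ x ∈ KG γ t, Commute x (ppG γ z) → x ∈ D := by
  intro d hd hdz
  have hsh := h.shape
  unfold topShape at hsh
  simp only [andB_eq, Bool.and_eq_true, Nat.ble_eq, Nat.beq_eq, Nat.blt_eq] at hsh
  obtain ⟨k0, hk0, w, hw, e⟩ := dc_cosetsG hA hφ h.next h.shape h.rep h.claims d hd
  rw [← List.map_fst_zip hlen.ge, List.map_map] at hw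
  obtain ⟨q, hq, rfl⟩ := List.mem_map.1 hw
  have hR := (List.of_mem_zip hq).1
  obtain ⟨σ, rfl⟩ : k0 ∈ φ.range := hφ.range ▸ hk0
  have hq' := hr q hq
  unfold crepOK at hq'
  simp only [andB_eq, Bool.and_eq_true] at hq'
  obtain ⟨r1, r2, r3⟩ := hq'
  obtain ⟨μ, hμ, p, hp, e1⟩ := reach_orb hA (ms_mem_stabD hφ hR (h.rep _ hR) h.claims) _ _ _
    (subB_spec r3 (closedB_spec hA hsh.1 hO (inv_mem σ.2)))
  obtain ⟨hμ1, hμ2⟩ := mem_stabD.1 hμ
  rw [hφ.range] at hμ2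
  obtain ⟨_, hv, hp'⟩ := testBit_orL hp
  obtain ⟨k, hk, rfl⟩ := List.mem_map.1 hv
  rw [testBit_papp1 hA, testBit_shl_one, pp_cons, pp_nil, mul_one, sp_even] at hp'
  have hkw : wge (t + 1) k = true := by
    rcases List.mem_append.1 hk with h3 | h3
    · obtain ⟨x, hx, rfl⟩ := List.mem_map.1 h3
      have := allL_spec r1 x hx
      rw [Bool.and_eq_true] at this
      exact this.1
    · obtain ⟨x, hx, rfl⟩ := List.mem_map.1 h3
      have := allL_spec r2 x hx
      rw [Bool.and_eq_true] at this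
      exact this.1
  have hs := hβ (σ * ⟨μ, hμ1⟩ * ⟨_, wp_mem hkw⟩⁻¹) (by
    show (σ * μ * (wp A k)⁻¹ : Perm ℕ) β' = β'
    rw [Perm.mul_apply, Perm.mul_apply, ← hp']
    simp only [Perm.coe_inv, symm_apply_apply]
    rw [e1, hp']; simp)
  have hsH : φ (σ * ⟨μ, hμ1⟩ * ⟨_, wp_mem hkw⟩⁻¹) ∈ KG γ (t + 1) := hφ.range ▸ ⟨_, rfl⟩
  rw [map_mul, map_mul, map_inv, hφ.wp hkw] at hs hsH
  simp only [Function.comp] at e
  have hh := mul_mem (inv_mem hμ2) e
  generalize φ σ = s0 at *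
  generalize φ ⟨μ, hμ1⟩ = m0 at *
  have ed : d = s0 * m0 * (wpG γ k)⁻¹ * (wpG γ k * wpG γ q.1.g) *
      (((wpG γ q.1.g)⁻¹ * m0 * wpG γ q.1.g)⁻¹ * ((s0 * wpG γ q.1.g)⁻¹ * d)) := by group
  generalize ((wpG γ q.1.g)⁻¹ * m0 * wpG γ q.1.g)⁻¹ * ((s0 * wpG γ q.1.g)⁻¹ * d) = x at ed hh
  generalize s0 * m0 * (wpG γ k)⁻¹ = s at ed hs hsH
  have hc : Commute (wpG γ k * wpG γ q.1.g * x) (ppG γ z) := by
    have := hs.inv_left.mul_left hdz
    rwa [ed, mul_assoc s, inv_mul_cancel_left] at this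
  rcases List.mem_append.1 hk with h3 | h3
  · exfalso
    obtain ⟨y, hy, rfl⟩ := List.mem_map.1 h3
    have a := allL_spec r1 y hy
    rw [Bool.and_eq_true] at a
    apply h1 _ (List.mem_flatMap.2 ⟨q, hq, List.mem_map.2 ⟨y, hy, rfl⟩⟩)
    rw [holds_nm]
    simp only [ppG_cons, ppG_nil, mul_one, spG_even, spG_odd]
    convert hzb _ (mul_mem (wpG_mem a.2) hh) using 1
    have := hc.eq
    calc _ = wpG γ y.2 * (wpG γ y.1 * wpG γ q.1.g)⁻¹ *
        (ppG γ z * (wpG γ y.1 * wpG γ q.1.g * x)) * (wpG γ y.2 * x)⁻¹ := by group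
      _ = _ := by rw [← this]; group
  · obtain ⟨y, hy, rfl⟩ := List.mem_map.1 h3
    have a := allL_spec r2 y hy
    simp only [Bool.and_eq_true] at a
    have b1 := h2 _ (List.mem_flatMap.2 ⟨q, hq, List.mem_map.2 ⟨y, hy, rfl⟩⟩)
    unfold HoldsG at b1
    simp only [ppG_cons, ppG_nil, mul_one, spG_even] at b1
    have b2 : wpG γ y.2.1 ∈ D := wpFG_mem_of_win hm a.2.1
    rw [b1] at ed hc
    rw [ed, mul_assoc, mul_assoc]
    refine mul_mem (hD' _ hsH hs) (mul_mem b2 (hD' _ (mul_mem (wpG_mem a.2.2) hh) ?_))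
    have := (hD _ b2).inv_left.mul_left hc
    rwa [mul_assoc, inv_mul_cancel_left] at this

end Top

end Cfsg.Agent.Spor
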