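import Cfsg.Agent.Lib.Spor.MatP
import Cfsg.Agent.Lib.Spor.Top

/-!
Claims up to scalars; central extensions from projective representations.
-/

set_option autoImplicit false

namespace Cfsg.Agent.Spor

open Cfsg.Agent.PG Matrix Subgroup

section Abstract

variable {Γ S : Type*} [Group Γ] [Group S]

theorem not_comm_of_simple [Finite S] [IsSimpleGroup S] (h : ¬ (Nat.card S).Prime) :
    ∃ a b : S, a * b ≠ b * a := by
  by_contra hc
  push Not at hc
  let _ : CommGroup S := { ‹Group S› with mul_comm := hc }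
  exact h IsSimpleGroup.prime_card

theorem inj_of_simple [IsSimpleGroup S] {φ : S →* Γ} (h : ∃ s, φ s ≠ 1) : Function.Injective φ := by
  rw [← MonoidHom.ker_eq_bot_iff]
  refine (IsSimpleGroup.eq_bot_or_eq_top_of_normal φ.ker inferInstance).resolve_right fun e => ?_
  obtain ⟨s, hs⟩ := h
  exact hs (e ▸ mem_top s : s ∈ φ.ker)

theorem cover_of_hom [IsSimpleGroup S] (hS : ∃ a b : S, a * b ≠ b * a) {Z : Subgroup Γ} [Z.Normal]
    (hZ : Z ≤ center Γ) (φ : S →* Γ ⧸ Z) (hφ : ∃ s, φ s ≠ 1) {M : Type*} [CommGroup M]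
    (f : Γ →* M) (hf : Z ≤ f.ker) :
    ∃ H : Subgroup Γ, Nat.card (center H) = Nat.card Z ∧ Nonempty (H ⧸ center H ≃* S) ∧
      H ≤ f.ker := by
  have hi := inj_of_simple hφ
  let H := φ.range.comap (QuotientGroup.mk' Z)
  let ψ : H →* S := (MonoidHom.ofInjective hi).symm.toMonoidHom.comp
    (((QuotientGroup.mk' Z).comp H.subtype).codRestrict φ.range fun x => x.2)
  have hψ : ∀ x : H, φ (ψ x) = ((x : Γ) : Γ ⧸ Z) := fun x =>
    MonoidHom.apply_ofInjective_symm hi _
  have hs : Function.Surjective ψ := fun s => by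
    obtain ⟨g, hg⟩ := QuotientGroup.mk_surjective (φ s)
    exact ⟨⟨g, s, hg.symm⟩, hi (by rw [hψ, hg])⟩
  have hk : ∀ x : H, x ∈ ψ.ker ↔ (x : Γ) ∈ Z := fun x => by
    rw [MonoidHom.mem_ker, ← hi.eq_iff, hψ, map_one, QuotientGroup.eq_one_iff]
  have hc : center H = ψ.ker := by
    apply le_antisymm
    · intro x hx
      rcases IsSimpleGroup.eq_bot_or_eq_top_of_normal (center S) inferInstance with h | h
      · rw [MonoidHom.mem_ker, ← mem_bot, ← h, mem_center_iff]
        intro s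
        obtain ⟨y, rfl⟩ := hs s
        rw [← map_mul, ← map_mul, mem_center_iff.1 hx]
      · obtain ⟨a, b, hab⟩ := hS
        exact absurd (mem_center_iff.1 (h ▸ mem_top b) a) hab
    · intro x hx
      exact mem_center_iff.2 fun y => Subtype.ext (mem_center_iff.1 (hZ ((hk x).1 hx)) y)
  have hle : Z ≤ H := fun z hz => ⟨1, by
    rw [map_one]; exact ((QuotientGroup.eq_one_iff z).2 hz).symm⟩
  refine ⟨H, ?_, ⟨(QuotientGroup.quotientMulEquivOfEq hc).trans
    (QuotientGroup.quotientKerEquivOfSurjective ψ hs)⟩, fun x hx => ?_⟩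
  · rw [hc, show ψ.ker = Z.subgroupOf H from Subgroup.ext hk,
      Nat.card_congr (subgroupOfEquivOfLe hle).toEquiv]
  · by_contra h
    obtain ⟨s, hs⟩ := hx
    obtain ⟨a, b, hab⟩ := hS
    apply hab
    apply inj_of_simple (φ := (QuotientGroup.lift Z f hf).comp φ) ⟨s, by
      rw [MonoidHom.comp_apply, hs]; exact h⟩
    rw [map_mul, map_mul, mul_comm]

theorem exists_sl {n R : Type*} [Fintype n] [DecidableEq n] [CommRing R] {H : Subgroup (GL n R)}
    (h : H ≤ (GeneralLinearGroup.det : GL n R →* Rˣ).ker) :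
    ∃ H' : Subgroup (SpecialLinearGroup n R), Nonempty (H' ≃* H) := by
  refine ⟨H.comap SpecialLinearGroup.toGL, ⟨(equivMapOfInjective _ _
    SpecialLinearGroup.toGL_injective).trans (MulEquiv.subgroupCongr (map_comap_eq_self ?_))⟩⟩
  intro x hx
  exact ⟨⟨x, congrArg Units.val (h hx)⟩, Units.ext rfl⟩

theorem orderOf_scalar {n R : Type*} [Fintype n] [DecidableEq n] [Nonempty n] [CommRing R]
    (u : Rˣ) : orderOf (GeneralLinearGroup.scalar n u) = orderOf u :=
  orderOf_injective _ (fun _ _ h => Units.ext (scalar_inj.1 (congrArg Units.val h))) u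

theorem sl_cover {n R : Type*} [Fintype n] [DecidableEq n] [Nonempty n] [CommRing R] {u : Rˣ}
    (hu : u ^ Fintype.card n = 1) [IsSimpleGroup S] (hS : ∃ a b : S, a * b ≠ b * a)
    [(zpowers (GeneralLinearGroup.scalar n u)).Normal]
    (φ : S →* GL n R ⧸ zpowers (GeneralLinearGroup.scalar n u)) (hφ : ∃ s, φ s ≠ 1) :
    ∃ H : Subgroup (SpecialLinearGroup n R), Nat.card (center H) = orderOf u ∧
      Nonempty (S ≃* H ⧸ center H) := by
  obtain ⟨H, h1, ⟨e⟩, h2⟩ := cover_of_hom hS (zpowers_le_of_mem (mem_center_iff.2 fun g =>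
    (GeneralLinearGroup.scalar_commute u g).symm)) φ hφ GeneralLinearGroup.det
    (zpowers_le_of_mem (by rw [MonoidHom.mem_ker, GeneralLinearGroup.det_scalar, hu]))
  obtain ⟨H', ⟨f⟩⟩ := exists_sl h2
  exact ⟨H', by rw [card_center_congr f, h1, Nat.card_zpowers, orderOf_scalar],
    ⟨e.symm.trans (quotCenterCongr f).symm⟩⟩

theorem neg_take_drop {γ : ℕ → Γ} {l : List (Claim × ℕ × ℕ)} (n : ℕ)
    (h1 : ∀ c ∈ (l.take n).map Prod.fst, ¬ HoldsG γ c)
    (h2 : ∀ c ∈ (l.drop n).map Prod.fst, ¬ HoldsG γ c) : ∀ c ∈ l.map Prod.fst, ¬ HoldsG γ c := by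
  rw [List.map_take] at h1
  rw [List.map_drop] at h2
  exact forall_take_drop n h1 h2

end Abstract

/-- multiply a state by a scalar -/
noncomputable def smulM (P : Par) (on a X : ℕ) : ℕ := force (Nat.mul a X) (folds P.p P.w on P.ks)

theorem smulM_spec {P : Par} (hP : P.OK) {r0 m X a : ℕ} (ha : a ≤ P.n * (2 ^ P.k - 1))
    {M : Matrix (Fin P.n) (Fin P.n) (ZMod P.p)} (hX : Rp P r0 m X M) :
    Rp P r0 m (smulM P (ones P.w (m * P.n)) a X) ((a : ZMod P.p) • M) := by
  obtain ⟨f, f1, rfl, f3⟩ := hX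
  obtain ⟨g, g1, g2, g3⟩ := folds_spec (N := m * P.n) hP.1 hP.2.2.2.2.2.2.2
    (f := fun i => a * f i) fun i hi => (Nat.mul_le_mul ha (f1 i hi)).trans (le_of_eq (by ring))
  refine ⟨g, g1, ?_, fun r s h1 h2 => ?_⟩
  · rw [← g2, ← mul_pk]; exact force_eq _ _
  · rw [g3 _ (idx_lt (by omega) s.2), Nat.cast_mul, f3 r s h1 h2]; rfl

/-- test of claims up to the scalars `as` -/
noncomputable def chkS (P : Par) (L : Lets) (as : List ℕ) (l : List Claim) : Bool :=
  force (ones P.w (Nat.mul P.n P.n)) fun on =>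
  force (Nat.mul (msk P.w) (ones (Nat.mul P.w P.n) P.n)) fun cm =>
  force (Nat.mul (msk P.k) (ones P.w P.n)) fun lo => force (idS P 0 P.n) fun X =>
  allL l fun c => force (pev (apM P L on cm lo) c.1 X) fun Y =>
    force (pev (apM P L on cm lo) c.2 X) fun Y' =>
      Bool.not (allL as fun a => Bool.not (eqT P on (smulM P on a Y) Y'))

theorem chkS_spec {P : Par} {L : Lets} (h : Good P L) {as : List ℕ}
    {Z : Subgroup (GL (Fin P.n) (ZMod P.p))} [Z.Normal]
    (hZ : ∀ a ∈ as, a ≤ P.n * (2 ^ P.k - 1) ∧ ∃ ζ ∈ Z, ζ.1 = (a : ZMod P.p) • 1) {l : List Claim}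
    (hl : chkS P L as l = true) :
    ∀ c ∈ l, HoldsG (fun j => QuotientGroup.mk' Z (gam P L j)) c := by
  unfold chkS at hl
  simp only [force_eq] at hl
  intro c hc
  have h1 := allL_spec hl c hc
  have h2 : ∃ a ∈ as, (a : ZMod P.p) • (ppG (gam P L) c.1).1 = (ppG (gam P L) c.2).1 := by
    by_contra h3
    push Not at h3
    have : ∀ l : List ℕ, ∀ p : ℕ → Bool, (∀ a ∈ l, p a = true) → allL l p = true := by
      intro l p hp
      induction l with
      | nil => rfl
      | cons a l ih =>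
        show andB (p a) (allL l p) = true
        rw [hp a List.mem_cons_self, ih fun b hb => hp b (List.mem_cons_of_mem _ hb)]; rfl
    rw [this] at h1
    · cases h1
    intro a ha
    rw [Bool.not_eq_true', ← Bool.not_eq_true]
    intro e
    apply h3 a ha
    ext r s
    exact congrFun (eqT_spec h.1 (smulM_spec h.1 (hZ a ha).1 (pevM_spec h (by simp) c.1))
      (pevM_spec h (by simp) c.2) e r (Nat.zero_le _) (by simp)) s
  obtain ⟨a, ha, e⟩ := h2
  obtain ⟨ζ, hζ, e'⟩ := (hZ a ha).2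
  unfold HoldsG
  rw [← map_ppG, ← map_ppG, show ppG (gam P L) c.2 = ζ * ppG (gam P L) c.1 from
    Units.ext (by rw [Units.val_mul, e', ← e, smul_mul_assoc, one_mul]), map_mul,
    show QuotientGroup.mk' Z ζ = 1 from (QuotientGroup.eq_one_iff ζ).2 hζ, one_mul]

end Cfsg.Agent.Spor
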