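import Cfsg.Agent.Lib.Spor.Glue

/-!
A concrete field with four elements, bit planes with values in it, actions of matrices on
vectors and on subspaces read off from bit planes.
-/

set_option autoImplicit false

namespace Cfsg.Agent.Spor

open Cfsg.Agent.PG Equiv Matrix

/-- the field with four elements `0, 1, w, w²` -/
inductive F4 : Type
  | z | o | w | v
  deriving DecidableEq

namespace F4

instance instFintype : Fintype F4 := ⟨{z, o, w, v}, fun x => by cases x <;> decide⟩

/-- addition -/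
def add : F4 → F4 → F4
  | z, x => x
  | o, z => o | o, o => z | o, w => v | o, v => w
  | w, z => w | w, o => v | w, w => z | w, v => o
  | v, z => v | v, o => w | v, w => o | v, v => z

/-- multiplication -/
def mul : F4 → F4 → F4
  | z, _ => z
  | o, x => x
  | w, z => z | w, o => w | w, w => v | w, v => o
  | v, z => z | v, o => v | v, w => o | v, v => w

/-- inversion, which is also the field automorphism -/
def inv : F4 → F4
  | z => z | o => o | w => v | v => w

instance instZero : Zero F4 := ⟨z⟩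
instance instOne : One F4 := ⟨o⟩
instance instAdd : Add F4 := ⟨add⟩
instance instMul : Mul F4 := ⟨mul⟩
instance instNeg : Neg F4 := ⟨fun x => x⟩
instance instInv : Inv F4 := ⟨inv⟩

instance instCommRing : CommRing F4 where
  add_assoc := by decide
  zero_add := by decide
  add_zero := by decide
  nsmul := nsmulRec
  zsmul := zsmulRec
  neg_add_cancel := by decide
  add_comm := by decide
  left_distrib := by decide
  right_distrib := by decide
  zero_mul := by decide
  mul_zero := by decide
  mul_assoc := by decide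
  one_mul := by decide
  mul_one := by decide
  mul_comm := by decide

instance instField : Field F4 where
  exists_pair_ne := ⟨0, 1, by decide⟩
  mul_inv_cancel := by decide
  inv_zero := rfl
  nnqsmul := _
  nnqsmul_def := fun _ _ => rfl
  qsmul := _
  qsmul_def := fun _ _ => rfl

theorem card_eq : Fintype.card F4 = 4 := rfl

theorem w_root : w ^ 2 + w + 1 = 0 := by decide

/-- the element with the given coordinates in the basis `1, w` -/
def mk : Bool → Bool → F4
  | false, false => z | true, false => o | false, true => w | true, true => v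

/-- first coordinate -/
def c0 : F4 → Bool
  | z => false | o => true | w => false | v => true

/-- second coordinate -/
def c1 : F4 → Bool
  | z => false | o => false | w => true | v => true

section Iso

variable {F : Type*} [Field F] [Fintype F] (hF : Fintype.card F = 4) (ω : F)
  (hω : ω ^ 2 + ω + 1 = 0)

include hF in
theorem two_eq_zero_of_card : (2 : F) = 0 := by
  have h := FiniteField.cast_card_eq_zero F
  rw [hF] at h
  have h2 : (2 : F) * 2 = 0 := by rw [← h]; norm_num
  exact mul_self_eq_zero.1 h2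

/-- the embedding sending `w` to `ω` -/
def toF : F4 → F
  | z => 0 | o => 1 | w => ω | v => ω ^ 2

/-- the ring homomorphism sending `w` to `ω` -/
def hom : F4 →+* F where
  toFun := toF ω
  map_one' := rfl
  map_zero' := rfl
  map_mul' x y := by
    have h3 : ω ^ 3 = 1 := by linear_combination (ω - 1) * hω
    cases x <;> cases y <;> (show toF ω (mul _ _) = _) <;> simp only [toF, mul] <;>
      first | ring1 | linear_combination h3 | linear_combination (-1) * h3 |
        linear_combination (-ω) * h3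
  map_add' x y := by
    have h2 := two_eq_zero_of_card hF
    cases x <;> cases y <;> (show toF ω (add _ _) = _) <;> simp only [toF, add] <;>
      first | ring1 | linear_combination (-1) * h2 | linear_combination (-ω) * h2 |
        linear_combination (-ω ^ 2) * h2 | linear_combination hω - (ω + 1) * h2 |
        linear_combination hω - (ω ^ 2 + 1) * h2 | linear_combination hω - (ω ^ 2 + ω) * h2

/-- the isomorphism sending `w` to `ω` -/
noncomputable def equiv : F4 ≃+* F :=
  RingEquiv.ofBijective (hom hF ω hω) ((Fintype.bijective_iff_injective_and_card _).2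
    ⟨(hom hF ω hω).injective, by rw [hF]; rfl⟩)

theorem equiv_w : equiv hF ω hω w = ω := rfl

end Iso

end F4

/-- a pair of bit planes -/
structure BP : Type where
  /-- first coordinates -/
  p0 : ℕ
  /-- second coordinates -/
  p1 : ℕ

namespace BP

/-- the value at position `i` -/
def ev (i : ℕ) (a : BP) : F4 := F4.mk (a.p0.testBit i) (a.p1.testBit i)

/-- sum -/
noncomputable def add (a b : BP) : BP :=
  force (Nat.xor a.p0 b.p0) fun x => force (Nat.xor a.p1 b.p1) fun y => ⟨x, y⟩

/-- product -/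
noncomputable def mul (a b : BP) : BP :=
  force (Nat.land a.p1 b.p1) fun t =>
  force (Nat.xor (Nat.land a.p0 b.p0) t) fun x =>
  force (Nat.xor (Nat.xor (Nat.land a.p0 b.p1) (Nat.land a.p1 b.p0)) t) fun y => ⟨x, y⟩

/-- product with a constant -/
noncomputable def cmul (c : F4) (a : BP) : BP :=
  F4.rec ⟨0, 0⟩ a ⟨a.p1, Nat.xor a.p0 a.p1⟩ ⟨Nat.xor a.p0 a.p1, a.p0⟩ c

/-- transform both planes -/
noncomputable def map (f : ℕ → ℕ) (a : BP) : BP :=
  force (f a.p0) fun x => force (f a.p1) fun y => ⟨x, y⟩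

/-- equality on the bitmap `m` -/
noncomputable def eqm (m : ℕ) (a b : BP) : Bool :=
  andB (Nat.beq (Nat.land (Nat.xor a.p0 b.p0) m) 0) (Nat.beq (Nat.land (Nat.xor a.p1 b.p1) m) 0)

theorem ev_add (i : ℕ) (a b : BP) : ev i (add a b) = ev i a + ev i b := by
  have e : add a b = ⟨a.p0 ^^^ b.p0, a.p1 ^^^ b.p1⟩ := by unfold add; simp only [force_eq]; rfl
  rw [e]
  simp only [ev, Nat.testBit_xor]
  cases a.p0.testBit i <;> cases a.p1.testBit i <;> cases b.p0.testBit i <;>
    cases b.p1.testBit i <;> rfl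

theorem ev_mul (i : ℕ) (a b : BP) : ev i (mul a b) = ev i a * ev i b := by
  have e : mul a b = ⟨(a.p0 &&& b.p0) ^^^ (a.p1 &&& b.p1),
      ((a.p0 &&& b.p1) ^^^ (a.p1 &&& b.p0)) ^^^ (a.p1 &&& b.p1)⟩ := by
    unfold mul; simp only [force_eq]; rfl
  rw [e]
  simp only [ev, Nat.testBit_xor, Nat.testBit_and]
  cases a.p0.testBit i <;> cases a.p1.testBit i <;> cases b.p0.testBit i <;>
    cases b.p1.testBit i <;> rfl

theorem ev_cmul (i : ℕ) (c : F4) (a : BP) : ev i (cmul c a) = c * ev i a := by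
  cases c
  · show F4.mk ((0 : ℕ).testBit i) ((0 : ℕ).testBit i) = _
    rw [Nat.zero_testBit]; rfl
  · rfl
  · show F4.mk (a.p1.testBit i) ((a.p0 ^^^ a.p1).testBit i) = _
    simp only [ev, Nat.testBit_xor]
    cases a.p0.testBit i <;> cases a.p1.testBit i <;> rfl
  · show F4.mk ((a.p0 ^^^ a.p1).testBit i) (a.p0.testBit i) = _
    simp only [ev, Nat.testBit_xor]
    cases a.p0.testBit i <;> cases a.p1.testBit i <;> rfl

theorem ev_map {f : ℕ → ℕ} {σ : Perm ℕ} (hf : Tr f σ) (i : ℕ) (a : BP) :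
    ev i (map f a) = ev (σ i) a := by
  unfold map ev
  simp only [force_eq]
  rw [hf, hf]

theorem eqm_spec {m : ℕ} {a b : BP} (h : eqm m a b = true) {i : ℕ} (hi : i ∈ bset m) :
    ev i a = ev i b := by
  unfold eqm at h
  rw [andB_eq, Bool.and_eq_true, Nat.beq_eq, Nat.beq_eq] at h
  have h1 : (a.p0 ^^^ b.p0) &&& m = 0 := h.1
  have h2 : (a.p1 ^^^ b.p1) &&& m = 0 := h.2
  have h3 := congrArg (fun x => x.testBit i) h1
  have h4 := congrArg (fun x => x.testBit i) h2
  have hi' : m.testBit i = true := hi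
  simp only [Nat.testBit_and, Nat.testBit_xor, hi', Nat.zero_testBit, Bool.and_true,
    bne_eq_false_iff_eq] at h3 h4
  unfold ev
  rw [h3, h4]

/-- the sum of `f i` over a list -/
noncomputable def sumL {ι : Type} (l : List ι) (f : ι → BP) : BP :=
  List.rec (motive := fun _ => BP) ⟨0, 0⟩ (fun a _ ih => add (f a) ih) l

theorem ev_sumL {ι : Type} (i : ℕ) (l : List ι) (f : ι → BP) :
    ev i (sumL l f) = (l.map fun a => ev i (f a)).sum := by
  induction l with
  | nil => show F4.mk ((0 : ℕ).testBit i) ((0 : ℕ).testBit i) = _; rw [Nat.zero_testBit]; rfl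
  | cons a l ih =>
    show ev i (add (f a) (sumL l f)) = _
    rw [ev_add, ih, List.map_cons, List.sum_cons]

end BP

/-- a list enumerating a finite type without repetition -/
def Enum {ι : Type} (l : List ι) : Prop := l.Nodup ∧ ∀ a, a ∈ l

theorem Enum.sum {ι : Type} [Fintype ι] {l : List ι} (h : Enum l) {M : Type*} [AddCommMonoid M]
    (f : ι → M) : (l.map f).sum = ∑ a, f a := by
  classical
  rw [← List.sum_toFinset f h.1]
  congr 1
  exact Finset.eq_univ_of_forall fun a => List.mem_toFinset.2 (h.2 a)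

theorem enum_finRange (n : ℕ) : Enum (List.finRange n) :=
  ⟨List.nodup_finRange n, List.mem_finRange⟩

section Vec

variable {ι : Type} [Fintype ι] [DecidableEq ι]

/-- the vector at position `i` -/
def vecAt (W : ι → BP) (i : ℕ) : ι → F4 := fun r => (W r).ev i

/-- test of `M *ᵥ W i = c i • W (σ i)` on the bitmap `m` -/
noncomputable def linB (l : List ι) (M : Matrix ι ι F4) (W : ι → BP) (c : BP) (f : ℕ → ℕ)
    (m : ℕ) : Bool :=
  allL l fun r => BP.eqm m (BP.sumL l fun s => BP.cmul (M r s) (W s)) (BP.mul c ((W r).map f))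

omit [DecidableEq ι] in
theorem linB_spec {l : List ι} (hl : Enum l) {M : Matrix ι ι F4} {W : ι → BP} {c : BP}
    {f : ℕ → ℕ} {σ : Perm ℕ} (hf : Tr f σ) {m : ℕ} (h : linB l M W c f m = true) {i : ℕ}
    (hi : i ∈ bset m) : M *ᵥ vecAt W i = c.ev i • vecAt W (σ i) := by
  ext r
  have := BP.eqm_spec (allL_spec h r (hl.2 r)) hi
  rw [BP.ev_sumL, hl.sum, BP.ev_mul, BP.ev_map hf] at this
  simp only [BP.ev_cmul] at this
  exact this

theorem tr_papp1 {N : ℕ} {A : List Net} (hA : okA N A = true) (l : List ℕ) :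
    Tr (papp1 A l) (pp A l) := fun v i => testBit_papp1 hA l v i

theorem tr_gw {N : ℕ} {A : List Net} (hA : okA N A = true) {j : ℕ} (hj : j < 128) :
    Tr (papp1 A [gw j]) (gp A j) := by
  have := tr_papp1 hA [gw j]
  rwa [pp_cons, pp_nil, mul_one, sp_gw A hj] at this

variable {G : Type*} [Group G] {F : Type*} [Field F]

/-- vectors, with the action through `ρ` -/
def Vc (_ρ : G →* Matrix ι ι F) : Type _ := ι → F

instance instMulActionVc (ρ : G →* Matrix ι ι F) : MulAction G (Vc ρ) where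
  smul g x := ρ g *ᵥ x
  one_smul x := by show ρ 1 *ᵥ x = x; rw [map_one]; exact one_mulVec _
  mul_smul g h x := by
    show ρ (g * h) *ᵥ x = ρ g *ᵥ (ρ h *ᵥ x)
    rw [map_mul]; exact (mulVec_mulVec _ _ _).symm

theorem vc_smul (ρ : G →* Matrix ι ι F) (g : G) (x : ι → F) :
    g • (show Vc ρ from x) = (show Vc ρ from ρ g *ᵥ x) := rfl

/-- subspaces, with the action through `ρ` -/
def Sb (_ρ : G →* Matrix ι ι F) : Type _ := Submodule F (ι → F)

instance instMulActionSb (ρ : G →* Matrix ι ι F) : MulAction G (Sb ρ) where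
  smul g x := Submodule.map (ρ g).mulVecLin x
  one_smul x := by
    show Submodule.map (ρ 1).mulVecLin x = x
    rw [map_one, mulVecLin_one]; exact Submodule.map_id _
  mul_smul g h x := by
    show Submodule.map (ρ (g * h)).mulVecLin x =
      Submodule.map (ρ g).mulVecLin (Submodule.map (ρ h).mulVecLin x)
    rw [map_mul, mulVecLin_mul]; exact Submodule.map_comp _ _ _

/-- the line through a vector -/
def line (ρ : G →* Matrix ι ι F) (x : ι → F) : Sb ρ := (F ∙ x : Submodule F (ι → F))

theorem smul_line (ρ : G →* Matrix ι ι F) (g : G) (x : ι → F) :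
    g • line ρ x = line ρ (ρ g *ᵥ x) := by
  show Submodule.map (ρ g).mulVecLin (F ∙ x) = F ∙ (ρ g *ᵥ x)
  rw [Submodule.map_span, Set.image_singleton]; rfl

theorem line_smul (ρ : G →* Matrix ι ι F) {c : F} (hc : c ≠ 0) (x : ι → F) :
    line ρ (c • x) = line ρ x := Submodule.span_singleton_smul_eq (IsUnit.mk0 c hc) x

theorem rho_mulVec_ne_zero (ρ : G →* Matrix ι ι F) (g : G) {x : ι → F} (hx : x ≠ 0) :
    ρ g *ᵥ x ≠ 0 := fun e => hx (by
  rw [← one_mulVec x, ← map_one ρ, ← inv_mul_cancel g, map_mul, ← mulVec_mulVec, e, mulVec_zero])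

theorem smul_line_of {ρ : G →* Matrix ι ι F} {g : G} {x y : ι → F} {c : F} (hx : x ≠ 0)
    (h : ρ g *ᵥ x = c • y) : g • line ρ x = line ρ y := by
  rw [smul_line, h, line_smul]
  rintro rfl
  exact rho_mulVec_ne_zero ρ g hx (by rw [h, zero_smul])

theorem exists_smul_of_line_eq {ρ : G →* Matrix ι ι F} {x y : ι → F} (h : line ρ x = line ρ y) :
    ∃ c : F, c • y = x :=
  Submodule.mem_span_singleton.1 (by
    have h' : (F ∙ x : Submodule F (ι → F)) = F ∙ y := h
    rw [← h']; exact Submodule.mem_span_singleton_self x)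

/-- all vectors on the bitmap `m` are non-zero -/
noncomputable def nzB (l : List ι) (W : ι → BP) (m : ℕ) : Bool :=
  subB m (orL (l.map fun r => Nat.lor (W r).p0 (W r).p1))

omit [Fintype ι] [DecidableEq ι] in
theorem nzB_spec {l : List ι} {W : ι → BP} {m : ℕ} (h : nzB l W m = true) {i : ℕ}
    (hi : i ∈ bset m) : vecAt W i ≠ 0 := by
  obtain ⟨_, h1, h2⟩ := testBit_orL (subB_spec h hi)
  obtain ⟨r, -, rfl⟩ := List.mem_map.1 h1
  intro e
  have h3 : F4.mk ((W r).p0.testBit i) ((W r).p1.testBit i) = 0 := congrFun e r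
  have h4 : ((W r).p0 ||| (W r).p1).testBit i = true := h2
  rw [Nat.testBit_or] at h4
  revert h3 h4
  cases (W r).p0.testBit i <;> cases (W r).p1.testBit i <;> decide

theorem acts_line {ρ : G →* Matrix ι ι F4} {l : List ι} (hl : Enum l) {W : ι → BP} {N : ℕ}
    {A : List Net} (hA : okA N A = true) {j m : ℕ} (hj : j < 128) {g : G} {c : BP}
    (hnz : nzB l W m = true) (hm : gp A j ∈ stabB m)
    (h : linB l (ρ g) W c (papp1 A [gw j]) m = true) :
    Acts (fun i => line ρ (vecAt W i)) (bset m) g (gp A j) :=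
  ⟨stabB_iff hm, fun _ hi => smul_line_of (nzB_spec hnz hi) (linB_spec hl (tr_gw hA hj) h hi)⟩

theorem acts_vec {ρ : G →* Matrix ι ι F4} {l : List ι} (hl : Enum l) {W : ι → BP} {N : ℕ}
    {A : List Net} (hA : okA N A = true) {j m : ℕ} (hj : j < 128) {g : G}
    (hm : gp A j ∈ stabB m) (h : linB l (ρ g) W ⟨m, 0⟩ (papp1 A [gw j]) m = true) :
    Acts (fun i => (show Vc ρ from vecAt W i)) (bset m) g (gp A j) :=
  ⟨stabB_iff hm, fun i hi => by
    have := linB_spec hl (tr_gw hA hj) h hi
    have hi' : m.testBit i = true := hi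
    have e : BP.ev i ⟨m, 0⟩ = 1 := by
      show F4.mk (m.testBit i) ((0 : ℕ).testBit i) = 1
      rw [hi', Nat.zero_testBit]; rfl
    rw [e, one_smul] at this
    exact this⟩

end Vec

/-- injectivity of an equivariant map on a primitive orbit -/
theorem injOn_of_max {G Y : Type*} [Group G] [MulAction G Y] {X : ℕ → Y} {B : Set ℕ}
    {Q S : Subgroup (Perm ℕ)} (h : ∀ σ ∈ Q, ∃ g : G, Acts X B g σ) {b : ℕ} (hb : b ∈ B)
    (htr : ∀ i ∈ B, ∃ σ ∈ Q, σ b = i) (hS : ∀ σ ∈ S, σ b = b) (hSQ : S ≤ Q)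
    (hmax : ∀ L : Subgroup (Perm ℕ), S ≤ L → L ≤ Q → L = S ∨ L = Q)
    (hne : ∃ i ∈ B, X i ≠ X b) : Set.InjOn X B := by
  let L : Subgroup (Perm ℕ) :=
    { carrier := {σ | σ ∈ Q ∧ X (σ b) = X b}
      one_mem' := ⟨Q.one_mem, rfl⟩
      mul_mem' := fun {σ τ} h1 h2 => ⟨Q.mul_mem h1.1 h2.1, by
        obtain ⟨g, hg⟩ := h σ h1.1
        obtain ⟨g', hg'⟩ := h τ h2.1
        rw [Perm.mul_apply, ← hg.2 _ ((hg'.1 b).2 hb), h2.2, hg.2 b hb, h1.2]⟩
      inv_mem' := fun {σ} h1 => ⟨Q.inv_mem h1.1, by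
        obtain ⟨g, hg⟩ := h σ h1.1
        rw [← hg.inv.2 b hb, inv_smul_eq_iff, hg.2 b hb, h1.2]⟩ }
  rcases hmax L (fun σ hσ => ⟨hSQ hσ, by rw [hS σ hσ]⟩) (fun σ hσ => hσ.1) with h1 | h1
  · intro i hi j hj e
    obtain ⟨σ, hσ, rfl⟩ := htr i hi
    obtain ⟨τ, hτ, rfl⟩ := htr j hj
    obtain ⟨g, hg⟩ := h τ hτ
    have h2 : τ⁻¹ * σ ∈ L := ⟨Q.mul_mem (Q.inv_mem hτ) hσ, by
      rw [Perm.mul_apply, ← hg.inv.2 _ hi, e, hg.inv.2 _ hj]; simp⟩
    have := hS _ (h1 ▸ h2)
    rwa [Perm.mul_apply, Perm.inv_eq_iff_eq] at this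
  · obtain ⟨i, hi, e⟩ := hne
    obtain ⟨σ, hσ, rfl⟩ := htr i hi
    have : σ ∈ L := h1.symm ▸ hσ
    exact absurd this.2 e

end Cfsg.Agent.Spor
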