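import Cfsg.Agent.Lib.Spor.Cover

/-!
Generation certificates for letters in an arbitrary group.
-/

set_option autoImplicit false

namespace Cfsg.Agent.Spor

open Cfsg.Agent.PG Subgroup

variable {Γ : Type*} [Group Γ] {γ : ℕ → Γ}

theorem genRunG {Q : Subgroup Γ} {l : List (ℕ × ℕ)} {fin : ℕ → Bool} {m : ℕ}
    (hQ : ∀ j, m.testBit j = true → γ j ∈ Q) (h : genRun l fin m = true)
    (hc : ∀ c ∈ genClaims l, HoldsG γ c) :
    ∃ m', fin m' = true ∧ ∀ j, m'.testBit j = true → γ j ∈ Q := by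
  induction l generalizing m with
  | nil => exact ⟨m, h, hQ⟩
  | cons q l ih =>
    have h' : (andB (Nat.blt q.1 128) <| andB (winF m q.2 q.2)
      (force (m ||| (Nat.shiftLeft 1 q.1)) (genRun l fin))) = true := h
    simp only [andB_eq, force_eq, Bool.and_eq_true, Nat.blt_eq] at h'
    refine ih ?_ h'.2.2 fun c hc' => hc c (List.mem_cons_of_mem _ hc')
    intro j hj
    rw [Nat.testBit_or, Bool.or_eq_true, testBit_shl_one] at hj
    rcases hj with hj | hj
    · exact hQ j hj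
    · have := hc _ List.mem_cons_self
      unfold HoldsG at this
      simp only [ppG_cons, ppG_nil, mul_one, spG_even, spG_gw γ h'.1] at this
      rw [hj, this]
      exact wpFG_mem_of_win hQ h'.2.1

/-- the letters in `[c, d)` lie in a subgroup containing the letters in `[a, b)` -/
theorem mem_of_genRun {Q : Subgroup Γ} {l : List (ℕ × ℕ)} {a b c d : ℕ}
    (hQ : ∀ j, a ≤ j → j < b → γ j ∈ Q) (h : genRun l (subB (ivl c d)) (ivl a b) = true)
    (hc : ∀ c ∈ genClaims l, HoldsG γ c) : ∀ j, c ≤ j → j < d → γ j ∈ Q := by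
  obtain ⟨m, h1, h2⟩ := genRunG (fun j hj => hQ j ((testBit_ivl _ _ _).1 hj).1
    ((testBit_ivl _ _ _).1 hj).2) h hc
  exact fun j h3 h4 => h2 j (subB_spec h1 ((testBit_ivl _ _ _).2 ⟨h3, h4⟩))

theorem KG_le_of_lt {Q : Subgroup Γ} {t n : ℕ} (hn : ∀ j, n ≤ j → γ j = 1)
    (h : ∀ j, t ≤ j → j < n → γ j ∈ Q) : KG γ t ≤ Q := KG_le fun j hj => by
  by_cases h1 : j < n
  · exact h j hj h1
  · rw [hn j (by omega)]; exact one_mem _

theorem iso_of_lift {A : List Net} {t : ℕ} {φ : K A t →* Γ} (hφ : IsLift A γ t φ)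
    (hi : Function.Injective φ) : Nonempty (K A t ≃* KG γ t) :=
  ⟨(MonoidHom.ofInjective hi).trans (MulEquiv.subgroupCongr hφ.range)⟩

theorem inj_of_lift {A : List Net} {t : ℕ} [IsSimpleGroup (K A t)] {φ : K A t →* Γ}
    (hφ : IsLift A γ t φ) {j : ℕ} (hj : t ≤ j) (hj' : j < 128) (h : ¬ HoldsG γ ([gw j], [])) :
    Function.Injective φ :=
  inj_of_simple ⟨⟨gp A j, gp_mem_K A hj⟩, fun e => h (by
    unfold HoldsG
    rw [ppG_cons, ppG_nil, mul_one, spG_gw γ hj', ← hφ j hj, e])⟩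

end Cfsg.Agent.Spor
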