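import Cfsg.Agent.Lib.PG.Cols
import Cfsg.Prelude.Def_SporadicB

/-!
Glue between certified permutation groups (`Lib.PG`) and the existence statements on sporadic
groups: transitive representations, quotients (Goursat), centres, non-split double covers,
classes of 3-transpositions, subgroups given by a second alphabet.
-/

set_option autoImplicit false

namespace Cfsg.Agent.Spor

open Cfsg.Agent.PG Equiv

section Abstract

variable {G H : Type*} [Group G] [Group H]

theorem exists_perm_sub {Q S : Subgroup G} (hle : S ≤ Q) [IsSimpleGroup Q] {n m : ℕ} [NeZero n]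
    (h1 : Nat.card Q = n * m) (h2 : Nat.card S = m) (hm : 0 < m) (hn : 1 < n) :
    ∃ H : Subgroup (Perm (Fin n)), Nonempty (Q ≃* H) ∧ MulAction.IsPretransitive H (Fin n) ∧
      Nonempty (S ≃* MulAction.stabilizer H (0 : Fin n)) := by
  have e0 := Subgroup.subgroupOfEquivOfLe hle
  have hi : (S.subgroupOf Q).index = n := by
    have := Subgroup.index_mul_card (S.subgroupOf Q)
    rw [Nat.card_congr e0.toEquiv, h1, h2] at this
    exact Nat.eq_of_mul_eq_mul_right hm this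
  obtain ⟨H, e, h3, h4⟩ := exists_perm_fin hi (fun N hN hle' => by
    rcases hN.eq_bot_or_eq_top with h | h
    · exact h
    · rw [h, top_le_iff] at hle'
      rw [hle', Subgroup.index_top] at hi
      omega)
  refine ⟨H, ⟨e⟩, h3, ⟨e0.symm.trans ?_⟩⟩
  rw [h4]
  exact e.subgroupMap _

theorem exists_sub_of_equiv {Q S : Subgroup G} (hle : S ≤ Q) (e : Q ≃* H) :
    ∃ T : Subgroup H, Nonempty (S ≃* T) :=
  ⟨_, ⟨(Subgroup.subgroupOfEquivOfLe hle).symm.trans (e.subgroupMap (S.subgroupOf Q))⟩⟩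

theorem simple_card_congr (e : G ≃* H) {n : ℕ} (h : IsSimpleGroup G ∧ Nat.card G = n) :
    IsSimpleGroup H ∧ Nat.card H = n :=
  haveI := h.1
  ⟨e.symm.isSimpleGroup, by rw [← h.2]; exact Nat.card_congr e.symm.toEquiv⟩

theorem index_of_card [Finite H] {T : Subgroup H} {a b : ℕ} (h1 : Nat.card T = a)
    (h2 : Nat.card H = b * a) : T.index = b := by
  have := Subgroup.index_mul_card T
  rw [h1, h2] at this
  exact Nat.eq_of_mul_eq_mul_right (h1 ▸ Nat.card_pos) this

theorem map_center_equiv (e : G ≃* H) :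
    (Subgroup.center G).map (e : G →* H) = Subgroup.center H := by
  ext y
  constructor
  · rintro ⟨x, hx, rfl⟩
    rw [Subgroup.mem_center_iff]
    intro h
    obtain ⟨g, rfl⟩ := e.surjective h
    have := Subgroup.mem_center_iff.1 hx g
    simp only [MonoidHom.coe_coe]
    rw [← map_mul, this, map_mul]
  · intro hy
    refine ⟨e.symm y, ?_, by simp⟩
    rw [SetLike.mem_coe, Subgroup.mem_center_iff]
    intro g
    apply e.injective
    simp only [map_mul, MulEquiv.apply_symm_apply]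
    exact Subgroup.mem_center_iff.1 hy _

/-- an isomorphism induces an isomorphism of the quotients by the centres -/
def quotCenterCongr (e : G ≃* H) : G ⧸ Subgroup.center G ≃* H ⧸ Subgroup.center H :=
  QuotientGroup.congr _ _ e (map_center_equiv e)

theorem card_center_congr (e : G ≃* H) :
    Nat.card (Subgroup.center G) = Nat.card (Subgroup.center H) := by
  rw [← map_center_equiv e]
  exact Nat.card_congr (e.subgroupMap _).toEquiv

theorem nonsplit_of {K : Type*} [Group K] (hZ : Nat.card (Subgroup.center G) = 2)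
    (e : G ⧸ Subgroup.center G ≃* K) {x y : G} (h1 : x * x * (y * y) ∈ Subgroup.center G)
    (h2 : x * x * (y * y) ≠ 1) : Cfsg.IsNonsplitDoubleCover G K := by
  refine ⟨hZ, ⟨e⟩, fun L hL => h2 ?_⟩
  have hi : L.index = 2 := by rw [← hZ]; exact hL.index_eq_card
  have h3 : x * x * (y * y) ∈ L :=
    L.mul_mem (Subgroup.mul_self_mem_of_index_two hi x) (Subgroup.mul_self_mem_of_index_two hi y)
  exact Subgroup.disjoint_def.1 hL.disjoint h1 h3

theorem nonsplit_congr {K : Type*} [Group K] (e : G ≃* H) (h : Cfsg.IsNonsplitDoubleCover G K) :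
    Cfsg.IsNonsplitDoubleCover H K := by
  obtain ⟨h1, ⟨f⟩, h3⟩ := h
  refine ⟨by rw [← card_center_congr e, h1], ⟨(quotCenterCongr e).symm.trans f⟩, fun L hL => ?_⟩
  apply h3 (L.map (e.symm : H →* G))
  rw [← map_center_equiv e.symm]
  apply Subgroup.isComplement'_of_disjoint_and_mul_eq_univ
  · rw [Subgroup.disjoint_def]
    rintro _ ⟨a, ha, rfl⟩ ⟨b, hb, e1⟩
    have : b = a := e.symm.injective e1
    subst this
    rw [Subgroup.disjoint_def.1 hL.disjoint ha hb, map_one]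
  · rw [Set.eq_univ_iff_forall]
    intro g
    obtain ⟨⟨a, b⟩, e1⟩ := hL.2 (e g)
    refine ⟨_, ⟨a, a.2, rfl⟩, _, ⟨b, b.2, rfl⟩, ?_⟩
    have e2 : (a : H) * b = e g := e1
    simp only [MonoidHom.coe_coe]
    rw [← map_mul, e2, MulEquiv.symm_apply_apply]

/-- the centralisers of conjugate elements are isomorphic -/
theorem centralizer_equiv_of_isConj {a b : G} (h : IsConj a b) :
    Nonempty (Subgroup.centralizer ({a} : Set G) ≃* Subgroup.centralizer ({b} : Set G)) := by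
  obtain ⟨g, rfl⟩ := isConj_iff.1 h
  have : (Subgroup.centralizer ({a} : Set G)).map ((MulAut.conj g : G ≃* G) : G →* G) =
      Subgroup.centralizer ({g * a * g⁻¹} : Set G) := by
    ext y
    simp only [Subgroup.mem_map, Subgroup.mem_centralizer_singleton_iff, MonoidHom.coe_coe,
      MulAut.conj_apply]
    constructor
    · rintro ⟨x, hx, rfl⟩
      calc g * x * g⁻¹ * (g * a * g⁻¹) = g * (x * a) * g⁻¹ := by group
        _ = _ := by rw [hx]; group
    · intro hy
      refine ⟨g⁻¹ * y * g, ?_, by group⟩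
      calc g⁻¹ * y * g * a = g⁻¹ * (y * (g * a * g⁻¹)) * g := by group
        _ = _ := by rw [hy]; group
  rw [← this]
  exact ⟨(MulAut.conj g : G ≃* G).subgroupMap _⟩

theorem card_conjugatesOf (d : G) :
    Nat.card (conjugatesOf d) = (Subgroup.centralizer ({d} : Set G)).index := by
  have h1 := MulAction.index_stabilizer (ConjAct G) d
  have h2 : MulAction.orbit (ConjAct G) d = conjugatesOf d := by
    ext y; rw [ConjAct.mem_orbit_conjAct, isConj_comm]; rfl
  rw [h2] at h1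
  rw [Nat.card_coe_set_eq, ← h1]
  have h3 : Subgroup.centralizer ({d} : Set G) =
      (MulAction.stabilizer (ConjAct G) d).comap (ConjAct.toConjAct : G ≃* ConjAct G) := by
    ext g
    simp only [Subgroup.mem_centralizer_singleton_iff, Subgroup.mem_comap, MonoidHom.coe_coe,
      MulAction.mem_stabilizer_iff, ConjAct.toConjAct_smul, mul_inv_eq_iff_eq_mul]
  rw [h3, Subgroup.index_comap_of_surjective _ ConjAct.toConjAct.surjective]

theorem centralizer_eq_of_coatom {S : Subgroup G} (hS : IsCoatom S) {d : G}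
    (h1 : ∀ s ∈ S, s * d = d * s) (h2 : ∃ g, g * d ≠ d * g) :
    Subgroup.centralizer ({d} : Set G) = S := by
  have hle : S ≤ Subgroup.centralizer ({d} : Set G) := fun s hs =>
    Subgroup.mem_centralizer_singleton_iff.2 (h1 s hs)
  rcases hle.lt_or_eq with h | h
  · obtain ⟨g, hg⟩ := h2
    exact absurd (Subgroup.mem_centralizer_singleton_iff.1
      ((hS.2 _ h).symm ▸ Subgroup.mem_top g)) hg
  · exact h.symm

theorem closure_conjugatesOf_normal (d : G) : (Subgroup.closure (conjugatesOf d)).Normal := by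
  have : Subgroup.closure (conjugatesOf d) = Subgroup.normalClosure {d} := by
    unfold Subgroup.normalClosure Group.conjugatesOfSet
    simp
  rw [this]; infer_instance

theorem closure_conjugatesOf_of_simple [IsSimpleGroup G] {d : G} (hd : d ≠ 1) :
    Subgroup.closure (conjugatesOf d) = ⊤ := by
  rcases (closure_conjugatesOf_normal d).eq_bot_or_eq_top with h | h
  · exact absurd (Subgroup.mem_bot.1 (h ▸ Subgroup.subset_closure (IsConj.refl d))) hd
  · exact h

theorem threeTransp_of_dc {d : G} (hd : orderOf d = 2) {R : Set G}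
    (hdc : ∀ g : G, ∃ k, k * d = d * k ∧ ∃ r ∈ R, ∃ s, s * d = d * s ∧ g = k * r * s)
    (hR : ∀ r ∈ R, (d * (r * d * r⁻¹)) ^ 2 = 1 ∨ (d * (r * d * r⁻¹)) ^ 3 = 1)
    (hgen : Subgroup.closure (conjugatesOf d) = ⊤) :
    Cfsg.IsThreeTranspositionClass (conjugatesOf d) := by
  refine ⟨⟨fun e he => ?_, fun e he f hf => ?_⟩, ⟨d, IsConj.refl d, rfl⟩, hgen⟩
  · obtain ⟨c, hc⟩ := he
    rw [← hd]; exact (SemiconjBy.orderOf_eq _ hc).symm
  · obtain ⟨a, rfl⟩ := isConj_iff.1 he
    obtain ⟨b, rfl⟩ := isConj_iff.1 hf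
    obtain ⟨k, hk, r, hr, s, hs, e⟩ := hdc (a⁻¹ * b)
    have h1 : a * d * a⁻¹ * (b * d * b⁻¹) = (a * k) * (d * (r * d * r⁻¹)) * (a * k)⁻¹ := by
      have hb : b = a * (k * r * s) := by rw [← e]; group
      have hs' : s * d * s⁻¹ = d := by rw [hs]; group
      have hk' : k * d * k⁻¹ = d := by rw [hk]; group
      calc a * d * a⁻¹ * (b * d * b⁻¹)
          = a * (k * d * k⁻¹) * a⁻¹ * (a * (k * r * (s * d * s⁻¹) * r⁻¹ * k⁻¹) * a⁻¹) := by
            rw [hk']; conv_lhs => rw [hb]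
            group
        _ = _ := by rw [hs']; group
    rw [h1, conj_pow, conj_pow]
    rcases hR r hr with h | h
    · left; rw [h]; group
    · right; rw [h]; group

end Abstract

section ActsLemmas

variable {G Y : Type*} [Group G] [MulAction G Y] {X : ℕ → Y} {B : Set ℕ}

theorem Acts.fix_of_one (hX : Set.InjOn X B) {σ : Perm ℕ} (h : Acts X B (1 : G) σ) :
    ∀ i ∈ B, σ i = i := fun i hi =>
  hX ((h.1 i).2 hi) hi (by rw [← h.2 i hi, one_smul])

theorem Acts.of_fix {g : G} {σ : Perm ℕ} (h0 : ∀ i, σ i ∈ B ↔ i ∈ B) (h : ∀ i ∈ B, σ i = i)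
    (h' : ∀ i ∈ B, g • X i = X i) : Acts X B g σ :=
  ⟨h0, fun i hi => by rw [h i hi, h' i hi]⟩

/-- counting: if `G` is not larger than the permutation group allows, every element of `G` acts -/
theorem acts_surj [Finite G] {Q : Subgroup (Perm ℕ)} [Finite Q]
    (h : ∀ σ ∈ Q, ∃ g : G, Acts X B g σ) (hX : Set.InjOn X B) (N1 : Subgroup G)
    (hN1 : ∀ g ∈ N1, ∀ i ∈ B, g • X i = X i) (N2 : Subgroup (Perm ℕ)) [Finite N2]
    (hN2 : ∀ σ ∈ Q, (∀ i ∈ B, σ i = i) → σ ∈ N2)
    (hcard : Nat.card G * Nat.card N2 ≤ Nat.card N1 * Nat.card Q) :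
    ∀ g : G, ∃ σ ∈ Q, Acts X B g σ := by
  let E : Subgroup (G × Q) := (actsSub X B).comap ((MonoidHom.id G).prodMap Q.subtype)
  have hE : ∀ p : G × Q, p ∈ E ↔ Acts X B p.1 (p.2 : Perm ℕ) := fun p => Iff.rfl
  let f1 : E →* G := (MonoidHom.fst G Q).comp E.subtype
  let f2 : E →* Q := (MonoidHom.snd G Q).comp E.subtype
  have s2 : f2.range = ⊤ := by
    rw [eq_top_iff]
    rintro σ -
    obtain ⟨g, hg⟩ := h σ σ.2
    exact ⟨⟨(g, σ), hg⟩, rfl⟩
  have c1 := Subgroup.card_eq_card_quotient_mul_card_subgroup f1.ker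
  have c2 := Subgroup.card_eq_card_quotient_mul_card_subgroup f2.ker
  rw [Nat.card_congr (QuotientGroup.quotientKerEquivRange f1).toEquiv] at c1
  rw [Nat.card_congr (QuotientGroup.quotientKerEquivRange f2).toEquiv, s2, Subgroup.card_top] at c2
  have k1 : Nat.card f1.ker ≤ Nat.card N2 := by
    refine Nat.card_le_card_of_injective (fun p => (⟨(p.1.1.2 : Perm ℕ), hN2 _ p.1.1.2.2 ?_⟩ : N2)) ?_
    · have h1 : p.1.1.1 = 1 := p.2
      have h2 := (hE _).1 p.1.2
      rw [h1] at h2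
      exact Acts.fix_of_one hX h2
    · intro p q e
      have h1 : p.1.1.1 = 1 := p.2
      have h2 : q.1.1.1 = 1 := q.2
      exact Subtype.ext (Subtype.ext (Prod.ext (h1.trans h2.symm)
        (Subtype.ext (congrArg (fun x : N2 => x.1) e))))
  have k2 : Nat.card N1 ≤ Nat.card f2.ker := by
    refine Nat.card_le_card_of_injective (fun g => (⟨⟨((g : G), 1), ?_⟩, rfl⟩ : f2.ker)) ?_
    · exact Acts.of_fix (fun _ => Iff.rfl) (fun _ _ => rfl) (hN1 g g.2)
    · intro p q e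
      exact Subtype.ext (congrArg (fun x : f2.ker => x.1.1.1) e)
  have h3 : Nat.card G ≤ Nat.card f1.range := by
    have p2 : 0 < Nat.card N2 := Nat.card_pos
    apply Nat.le_of_mul_le_mul_right _ p2
    calc Nat.card G * Nat.card N2 ≤ Nat.card N1 * Nat.card Q := hcard
      _ ≤ Nat.card f2.ker * Nat.card Q := Nat.mul_le_mul_right _ k2
      _ = Nat.card f1.range * Nat.card f1.ker := by rw [← c1, c2, mul_comm]
      _ ≤ _ := Nat.mul_le_mul_left _ k1
  have h4 : f1.range = ⊤ := Subgroup.eq_top_of_le_card _ h3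
  intro g
  obtain ⟨p, hp⟩ := h4.symm ▸ Subgroup.mem_top g
  exact ⟨p.1.2, p.1.2.2, hp ▸ (hE _).1 p.2⟩

/-- Goursat: the two groups have isomorphic quotients by the kernels of the actions -/
theorem quot_iso_of_acts {Q : Subgroup (Perm ℕ)} (h : ∀ σ ∈ Q, ∃ g : G, Acts X B g σ)
    (h' : ∀ g : G, ∃ σ ∈ Q, Acts X B g σ) (hX : Set.InjOn X B) (N1 : Subgroup G) [N1.Normal]
    (hN1 : ∀ g, g ∈ N1 ↔ ∀ i ∈ B, g • X i = X i) (N2 : Subgroup Q) [N2.Normal]
    (hN2 : ∀ σ, σ ∈ N2 ↔ ∀ i ∈ B, (σ : Perm ℕ) i = i) : Nonempty (G ⧸ N1 ≃* Q ⧸ N2) := by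
  let E : Subgroup (G × Q) := (actsSub X B).comap ((MonoidHom.id G).prodMap Q.subtype)
  have hE : ∀ p : G × Q, p ∈ E ↔ Acts X B p.1 (p.2 : Perm ℕ) := fun p => Iff.rfl
  have s1 : Function.Surjective (Prod.fst ∘ E.subtype) := fun g => by
    obtain ⟨σ, hσ, e⟩ := h' g
    exact ⟨⟨(g, ⟨σ, hσ⟩), e⟩, rfl⟩
  have s2 : Function.Surjective (Prod.snd ∘ E.subtype) := fun σ => by
    obtain ⟨g, hg⟩ := h σ σ.2
    exact ⟨⟨(g, σ), hg⟩, rfl⟩
  obtain ⟨e, -⟩ := Subgroup.goursat_surjective s1 s2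
  have e1 : E.goursatFst = N1 := by
    ext g
    rw [Subgroup.mem_goursatFst, hE, hN1]
    exact ⟨fun h => h.2, fun h => Acts.of_fix (fun _ => Iff.rfl) (fun _ _ => rfl) h⟩
  have e2 : E.goursatSnd = N2 := by
    ext σ
    rw [Subgroup.mem_goursatSnd, hE, hN2]
    refine ⟨fun h => Acts.fix_of_one hX h, fun h1 => Acts.of_fix ?_ h1 fun _ _ => one_smul _ _⟩
    exact (h σ σ.2).choose_spec.1
  have := Subgroup.normal_goursatFst s1
  have := Subgroup.normal_goursatSnd s2
  exact ⟨((QuotientGroup.quotientMulEquivOfEq e1.symm).trans e).trans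
    (QuotientGroup.quotientMulEquivOfEq e2)⟩

/-- central elements fix all objects when point stabilisers fix one point only -/
theorem center_fixes {Q : Subgroup (Perm ℕ)} (h : ∀ σ ∈ Q, ∃ g : G, Acts X B g σ)
    (h' : ∀ g : G, ∃ σ ∈ Q, Acts X B g σ) (hX : Set.InjOn X B) {b : ℕ} (hb : b ∈ B)
    (htr : ∀ i ∈ B, ∃ σ ∈ Q, σ b = i)
    (hself : ∀ i ∈ B, i ≠ b → ∃ σ ∈ Q, σ b = b ∧ σ i ≠ i) :
    ∀ z ∈ Subgroup.center G, ∀ i ∈ B, z • X i = X i := by
  intro z hz
  obtain ⟨τ, -, hτ⟩ := h' z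
  have h1 : z • X b = X b := by
    by_contra hc
    have h2 : τ b ≠ b := fun e => hc (by rw [hτ.2 b hb, e])
    have h3 := (hτ.1 b).2 hb
    obtain ⟨σ, hσ, e1, e2⟩ := hself _ h3 h2
    obtain ⟨g, hg⟩ := h σ hσ
    apply e2
    apply hX ((hg.1 _).2 h3) h3
    rw [← hg.2 _ h3, ← hτ.2 b hb, ← mul_smul, Subgroup.mem_center_iff.1 hz g, mul_smul, hg.2 b hb,
      e1]
  intro i hi
  obtain ⟨σ, hσ, rfl⟩ := htr i hi
  obtain ⟨g, hg⟩ := h σ hσ
  rw [← hg.2 b hb, ← mul_smul, ← Subgroup.mem_center_iff.1 hz g, mul_smul, h1]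

theorem acts_self {Q : Subgroup (Perm ℕ)} (hB : ∀ σ ∈ Q, ∀ i, σ i ∈ B ↔ i ∈ B) (σ : Q) :
    Acts (fun i => i) B σ (σ : Perm ℕ) := ⟨hB σ σ.2, fun _ _ => rfl⟩

theorem center_fixes_self {Q : Subgroup (Perm ℕ)} (hB : ∀ σ ∈ Q, ∀ i, σ i ∈ B ↔ i ∈ B)
    {b : ℕ} (hb : b ∈ B) (htr : ∀ i ∈ B, ∃ σ ∈ Q, σ b = i)
    (hself : ∀ i ∈ B, i ≠ b → ∃ σ ∈ Q, σ b = b ∧ σ i ≠ i) :
    ∀ z ∈ Subgroup.center Q, ∀ i ∈ B, (z : Perm ℕ) i = i :=
  center_fixes (G := Q) (X := fun i => i) (fun σ hσ => ⟨⟨σ, hσ⟩, acts_self hB _⟩)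
    (fun g => ⟨g, g.2, acts_self hB g⟩) (fun _ _ _ _ e => e) hb htr hself

theorem acts_of_K {A : List Net} {γ : ℕ → G} {t : ℕ}
    (h : ∀ j, t ≤ j → j < A.length → Acts X B (γ j) (gp A j)) :
    ∀ σ ∈ K A t, ∃ g : G, Acts X B g σ := fun σ hσ =>
  (exists_acts_of_mem_K h σ hσ).imp fun _ hg => hg.2

end ActsLemmas

/-! ### Bitmap tests -/

theorem stabB_iff {v : ℕ} {σ : Perm ℕ} (h : σ ∈ stabB v) (i : ℕ) : σ i ∈ bset v ↔ i ∈ bset v := by
  show v.testBit (σ i) = true ↔ v.testBit i = true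
  rw [h i]

theorem K_bset {N : ℕ} {A : List Net} (hA : okA N A = true) (hl : A.length ≤ 128) {t v : ℕ}
    (h : invB A (kgens A t) v = true) : ∀ σ ∈ K A t, ∀ i, σ i ∈ bset v ↔ i ∈ bset v :=
  fun _ hσ => stabB_iff (K_le_stabB hA hl h hσ)

/-- the products `gens` of `K A t` fix `b` and no other point of `B` -/
noncomputable def selfB (A : List Net) (t : ℕ) (gens : List (List ℕ)) (b r : ℕ) (rs : List ℕ)
    (B : ℕ) : Bool :=
  andB (allL gens (pge t)) <| andB (fixB A gens [b]) <| andB (coverB A gens r (b :: rs) B) <|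
  allL rs fun a => gens.any fun g => Bool.not (mapsB A g a a)

theorem selfB_spec {N : ℕ} {A : List Net} (hA : okA N A = true) {t : ℕ} {gens : List (List ℕ)}
    {b r : ℕ} {rs : List ℕ} {B : ℕ} (h : selfB A t gens b r rs B = true) :
    ∀ i ∈ bset B, i ≠ b → ∃ σ ∈ K A t, σ b = b ∧ σ i ≠ i := by
  unfold selfB at h
  simp only [andB_eq, Bool.and_eq_true] at h
  obtain ⟨h1, h2, h3, h4⟩ := h
  have hg : ∀ g ∈ gens, pp A g ∈ K A t ⊓ fixL [b] := fun g hg =>
    ⟨pp_mem (allL_spec h1 g hg), fixB_spec hA h2 g hg⟩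
  intro i hi hib
  obtain ⟨a, ha, σ, hσ, rfl⟩ := coverB_spec hA hg h3 hi
  have hσb : σ b = b := hσ.2 b List.mem_cons_self
  rcases List.mem_cons.1 ha with ha | ha
  · exact absurd (ha ▸ hσb) hib
  obtain ⟨g, hg1, hg2⟩ := List.any_eq_true.1 (allL_spec h4 a ha)
  have hm := Subgroup.mul_mem _ (Subgroup.mul_mem _ hσ (hg g hg1)) (Subgroup.inv_mem _ hσ)
  refine ⟨_, hm.1, hm.2 b List.mem_cons_self, fun e => ?_⟩
  have : pp A g a = a := by
    apply σ.injective
    simpa using e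
  rw [(mapsB_iff hA).2 this] at hg2
  cases hg2

/-- the orbit of `b` under `K A t` covers `B` -/
theorem trans_of_cover {N : ℕ} {A : List Net} (hA : okA N A = true) (hl : A.length ≤ 128)
    {t b r B : ℕ} (h : coverB A (kgens A t) r [b] B = true) :
    ∀ i ∈ bset B, ∃ σ ∈ K A t, σ b = i := by
  intro i hi
  obtain ⟨a, ha, σ, hσ, e⟩ := coverB_spec hA (kgens_mem hl t) h hi
  exact ⟨σ, hσ, by rw [← List.mem_singleton.1 ha, e]⟩

/-- double cosets from the data of a maximality test -/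
theorem dc_of_maxOK {N : ℕ} {A : List Net} (hA : okA N A = true) {t t' b r r1 r2 : ℕ}
    {gs : List ℕ} (hs : StabIs A t b t') (h : maxOK A t t' b r r1 r2 gs = true) :
    (∀ g ∈ gs, wp A g ∈ K A t) ∧ ∀ σ ∈ K A t, σ ∈ K A t' ∨
      ∃ k ∈ K A t', ∃ g ∈ gs, ∃ s ∈ K A t', σ = k * wp A g * s := by
  unfold maxOK at h
  simp only [andB_eq, force_eq, Bool.and_eq_true, Nat.ble_eq] at h
  obtain ⟨a1, a2, ⟨a3, a4⟩, -⟩ := h
  refine ⟨fun g hg => wp_mem (allL_spec a2 g hg), fun l hl => ?_⟩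
  have b1 := subB_spec a4 (closedB_spec hA a1 a3 hl)
  have b2 : ∀ a b : ℕ, Nat.lor a b = a ||| b := fun _ _ => rfl
  rw [b2, Nat.testBit_or, Bool.or_eq_true, testBit_shl_one] at b1
  rcases b1 with b1 | b1
  · exact Or.inl (hs.2.2 l hl b1)
  right
  obtain ⟨k, hk, p, hp, e⟩ := reach_orb hA (kgens_mem a1 t') _ _ _ b1
  obtain ⟨_, hv, hp'⟩ := testBit_orL hp
  obtain ⟨g, hg, rfl⟩ := List.mem_map.1 hv
  rw [testBit_papp1 hA, testBit_shl_one, pp_cons, pp_nil, mul_one, sp_odd,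
    Perm.inv_eq_iff_eq] at hp'
  have hgK : wp A g ∈ K A t := wp_mem (allL_spec a2 g hg)
  refine ⟨k, hk, g, hg, (k * wp A g)⁻¹ * l, hs.2.2 _ (Subgroup.mul_mem _ (Subgroup.inv_mem _
    (Subgroup.mul_mem _ (K_mono A hs.1 hk) hgK)) hl) ?_, by group⟩
  rw [Perm.mul_apply, Perm.inv_eq_iff_eq, Perm.mul_apply, ← hp', e]

/-- claims that the product `d` commutes with the networks from `t` on -/
noncomputable def commClaims (d : List ℕ) (t n : ℕ) : List Claim :=
  (List.range' t (n - t)).map fun j => (gw j :: d, d ++ [gw j])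

theorem comm_of_claims {A : List Net} (hl : A.length ≤ 128) {d : List ℕ} {t : ℕ}
    (h : ∀ c ∈ commClaims d t A.length, Holds A c) : ∀ σ ∈ K A t, σ * pp A d = pp A d * σ := by
  have : K A t ≤ Subgroup.centralizer {pp A d} := K_le fun j h1 h2 => by
    have := h _ (List.mem_map.2 ⟨j, by rw [List.mem_range'_1]; omega, rfl⟩)
    unfold Holds at this
    rw [pp_cons, pp_append, pp_cons, pp_nil, mul_one, sp_gw A (by omega)] at this
    exact Subgroup.mem_centralizer_singleton_iff.2 this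
  exact fun σ hσ => Subgroup.mem_centralizer_singleton_iff.1 (this hσ)

/-- claims `(d * g d g⁻¹) ^ e = 1` -/
noncomputable def transpClaims (d : List ℕ) (ge : List (ℕ × ℕ)) : List Claim :=
  ge.map fun q => (powP (d ++ (2 * q.1) :: (d ++ [2 * q.1 + 1])) q.2, [])

theorem moved_of_not_mapsB {N : ℕ} {A : List Net} (hA : okA N A = true) {l : List ℕ} {a : ℕ}
    (h : Bool.not (mapsB A l a a) = true) : pp A l a ≠ a := fun e => by
  rw [(mapsB_iff hA).2 e] at h; cases h

theorem ne_one_of_not_mapsB {N : ℕ} {A : List Net} (hA : okA N A = true) {l : List ℕ} {a : ℕ}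
    (h : Bool.not (mapsB A l a a) = true) : pp A l ≠ 1 := fun e =>
  moved_of_not_mapsB hA h (by rw [e]; rfl)

/-- a class of 3-transpositions whose centraliser is the point stabiliser -/
theorem transp_K {N : ℕ} {A : List Net} (hA : okA N A = true) (hl : A.length ≤ 128)
    {t t' b r r1 r2 : ℕ} {ge : List (ℕ × ℕ)} (hs : StabIs A t b t')
    (h : maxOK A t t' b r r1 r2 (ge.map Prod.fst) = true) {d : List ℕ} (hd : pp A d ∈ K A t)
    (hd1 : pp A d ≠ 1) (hd2 : pp A d ^ 2 = 1)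
    (hc : ∀ c ∈ commClaims d t' A.length, Holds A c)
    (hge : ∀ q ∈ ge, q.2 = 2 ∨ q.2 = 3) (ht : ∀ c ∈ transpClaims d ge, Holds A c)
    (hne : ∃ σ ∈ K A t, σ b ≠ b) (hz : ∃ g : K A t, g * ⟨_, hd⟩ ≠ ⟨_, hd⟩ * g)
    (hgen : Subgroup.closure (conjugatesOf (⟨_, hd⟩ : K A t)) = ⊤) :
    Cfsg.IsThreeTranspositionClass (conjugatesOf (⟨_, hd⟩ : K A t)) ∧
      Subgroup.centralizer ({⟨_, hd⟩} : Set (K A t)) = (K A t').subgroupOf (K A t) := by
  have hle := K_mono A hs.1
  have hcomm := comm_of_claims hl hc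
  obtain ⟨a1, a2⟩ := dc_of_maxOK hA hs h
  constructor
  · refine threeTransp_of_dc (R := {x | x = 1 ∨ ∃ q ∈ ge, (x : Perm ℕ) = wp A q.1}) ?_ ?_ ?_ hgen
    · have : Fact (Nat.Prime 2) := ⟨Nat.prime_two⟩
      exact orderOf_eq_prime (Subtype.ext hd2) (fun e => hd1 (congrArg Subtype.val e))
    · intro g
      rcases a2 g g.2 with h1 | ⟨k, hk, w, hw, s, hs', e⟩
      · exact ⟨g, Subtype.ext (hcomm _ h1), 1, Or.inl rfl, 1, by simp, by simp⟩
      · obtain ⟨q, hq, rfl⟩ := List.mem_map.1 hw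
        exact ⟨⟨k, hle hk⟩, Subtype.ext (hcomm _ hk), ⟨_, a1 _ hw⟩, Or.inr ⟨q, hq, rfl⟩,
          ⟨s, hle hs'⟩, Subtype.ext (hcomm _ hs'), Subtype.ext e⟩
    · rintro x (rfl | ⟨q, hq, e⟩)
      · left
        apply Subtype.ext
        simp only [one_mul, inv_one, mul_one, SubgroupClass.coe_pow, Subgroup.coe_mul,
          OneMemClass.coe_one]
        rw [← sq, hd2, one_pow]
      · have := ht _ (List.mem_map.2 ⟨q, hq, rfl⟩)
        unfold Holds at this
        rw [pp_powP, pp_append, pp_cons, pp_append, pp_cons, pp_nil, mul_one, sp_even, sp_odd,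
          ← e, ← mul_assoc (x : Perm ℕ)] at this
        rcases hge q hq with h1 | h1
        · left; apply Subtype.ext; rw [h1] at this; exact this
        · right; apply Subtype.ext; rw [h1] at this; exact this
  · refine centralizer_eq_of_coatom (isCoatom_subgroupOf hle ?_
      fun L h1 h2 => max_spec hA hs h h1 h2) (fun s hs' => Subtype.ext (hcomm _ hs')) hz
    intro hc
    obtain ⟨σ, hσ, h⟩ := hne
    exact h (hs.2.1 σ (hc ▸ hσ))

/-! ### A second alphabet -/

/-- `u⁻¹ * w_j * u` (alphabet `A`) and the network `j` of `A'` agree on the bitmap `m`, in the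
plane `p` -/
noncomputable def Ag (A A' : List Net) (lg m u : ℕ) (ws : List ℕ) (t : ℕ) (c : ℕ × ℕ) : Bool :=
  Nat.beq (Nat.land (Nat.xor (papp1 A [2 * u + 1, 2 * nthD 1 ws (Nat.sub c.1 t), 2 * u]
    (plane c.2 lg)) (papp1 A' [gw c.1] (plane c.2 lg))) m) 0

/-- the pairs to test -/
def agList (t n lg : ℕ) : List (ℕ × ℕ) :=
  (List.range' t (n - t)).flatMap fun j => (List.range lg).map fun p => (j, p)

theorem acts_of_Ag {A A' : List Net} {lg lg' m u t : ℕ} {ws : List ℕ}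
    (hA : okA (2 ^ lg) A = true) (hA' : okA (2 ^ lg') A' = true) (hlg : lg' ≤ lg)
    (hl : A'.length ≤ 128) (hinv : invB A' (kgens A' t) m = true)
    (h : ∀ c ∈ agList t A'.length lg, Ag A A' lg m u ws t c = true) :
    ∀ j, t ≤ j → j < A'.length →
      Acts (fun i => wp A u i) (bset m) (wp A (nthD 1 ws (j - t))) (gp A' j) := by
  intro j h1 h2
  refine ⟨K_bset hA' hl hinv _ (gp_mem_K A' h1), fun i hi => ?_⟩
  have e1 : pp A [2 * u + 1, 2 * nthD 1 ws (j - t), 2 * u] i = gp A' j i := by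
    have s1 := supp_pp hA [2 * u + 1, 2 * nthD 1 ws (j - t), 2 * u]
    have s2 : Supp (2 ^ lg) (gp A' j) := fun i hi =>
      supp_gp hA' j i ((Nat.pow_le_pow_right (by norm_num) hlg).trans hi)
    by_cases hi' : i < 2 ^ lg
    · apply Nat.eq_of_testBit_eq
      intro p
      by_cases hp : p < lg
      · have h3 := h (j, p) (List.mem_flatMap.2 ⟨j, by rw [List.mem_range'_1]; omega,
          List.mem_map.2 ⟨p, List.mem_range.2 hp, rfl⟩⟩)
        unfold Ag at h3
        rw [Nat.beq_eq] at h3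
        have h4 : ((papp1 A [2 * u + 1, 2 * nthD 1 ws (j - t), 2 * u] (plane p lg) ^^^
          papp1 A' [gw j] (plane p lg)) &&& m).testBit i = false := by
          have : ((papp1 A [2 * u + 1, 2 * nthD 1 ws (j - t), 2 * u] (plane p lg) ^^^
            papp1 A' [gw j] (plane p lg)) &&& m) = 0 := h3
          rw [this, Nat.zero_testBit]
        have hi2 : m.testBit i = true := hi
        rw [Nat.testBit_and, Nat.testBit_xor, hi2, testBit_papp1 hA, testBit_papp1 hA',
          testBit_plane, testBit_plane, pp_cons A' _ [], pp_nil, mul_one, sp_gw A' (by omega),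
          decide_eq_true (s1.lt hi'), decide_eq_true (s2.lt hi')] at h4
        simpa using h4
      · have b : 2 ^ lg ≤ 2 ^ p := Nat.pow_le_pow_right (by norm_num) (by omega)
        rw [Nat.testBit_lt_two_pow ((s1.lt hi').trans_le b),
          Nat.testBit_lt_two_pow ((s2.lt hi').trans_le b)]
    · rw [s1 i (by omega), s2 i (by omega)]
  rw [← e1]
  simp [sp_even, sp_odd]

theorem nthD_wp_mem {A : List Net} {t : ℕ} {ws : List ℕ} (h : allL ws (wge t) = true) (j : ℕ) :
    wp A (nthD 1 ws j) ∈ K A t := by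
  rcases nthD_mem_or 1 ws j with h1 | h1
  · rw [h1, wp_one]; exact Subgroup.one_mem _
  · exact wp_mem (allL_spec h _ h1)

/-- the point `b` is the image under the word `u` of the point `i` of the bitmap `m` -/
theorem mem_image_of {N : ℕ} {A : List Net} (hA : okA N A = true) {u m i b : ℕ}
    (h : andB (bit m i) (mapsB A [2 * u] i b) = true) : b ∈ (fun i => wp A u i) '' bset m := by
  rw [andB_eq, Bool.and_eq_true, mapsB_iff hA, bit_eq, pp_cons, pp_nil, mul_one, sp_even] at h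
  exact ⟨i, h.1, h.2⟩

/-- a subgroup of `K A t0` isomorphic to `K A' t` -/
theorem sub_iso {A A' : List Net} {t0 t : ℕ} {ws : List ℕ} {B : Set ℕ} {π : Perm ℕ}
    (h : ∀ j, t ≤ j → j < A'.length →
      Acts (fun i => π i) B (wp A (nthD 1 ws (j - t))) (gp A' j))
    (hw : allL ws (wge t0) = true) (hf : FixTriv (K A' t) B)
    (hf' : FixTriv (K A t0) ((fun i => π i) '' B)) :
    ∃ S : Subgroup (Perm ℕ), S ≤ K A t0 ∧ Nonempty (S ≃* K A' t) := by
  have hle : Gam (fun j => wp A (nthD 1 ws (j - t))) t A'.length ≤ K A t0 :=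
    Gam_le fun j _ _ => nthD_wp_mem hw _
  obtain ⟨e, -⟩ := exists_iso_of_acts h π.injective.injOn hf (fun g hg hfix =>
    hf' g (hle hg) (by rintro _ ⟨i, hi, rfl⟩; exact hfix i hi))
  exact ⟨_, hle, ⟨e⟩⟩

/-- the same data, as an action of the group `K A t0` -/
theorem acts_sub {A A' : List Net} {t0 t : ℕ} {ws : List ℕ} {B : Set ℕ} {π : Perm ℕ}
    (h : ∀ j, t ≤ j → j < A'.length →
      Acts (fun i => π i) B (wp A (nthD 1 ws (j - t))) (gp A' j))
    (hw : allL ws (wge t0) = true) :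
    ∀ σ ∈ K A' t, ∃ g : K A t0, Acts (fun i => π i) B g σ :=
  acts_of_K (γ := fun j => (⟨_, nthD_wp_mem hw (j - t)⟩ : K A t0)) fun j h1 h2 => h j h1 h2

end Cfsg.Agent.Spor
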