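import Cfsg.Agent.Lib.Spor.SU4

/-!
More tests: pointwise fixing of a bitmap, prefixes of alphabets, index two extensions.
-/

set_option autoImplicit false

namespace Cfsg.Agent.Spor

open Cfsg.Agent.PG Equiv

/-- the product `l` does not change the plane `p` on the bitmap `m` -/
noncomputable def fixPl (A : List Net) (lg : ℕ) (l : List ℕ) (m p : ℕ) : Bool :=
  Nat.beq (Nat.land (Nat.xor (papp1 A l (plane p lg)) (plane p lg)) m) 0

theorem fix_of_planes {A : List Net} {lg : ℕ} (hA : okA (2 ^ lg) A = true) {l : List ℕ} {m : ℕ}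
    (h : ∀ p ∈ List.range lg, fixPl A lg l m p = true) : ∀ i ∈ bset m, pp A l i = i := by
  intro i hi
  have s1 := supp_pp hA l
  by_cases hi' : i < 2 ^ lg
  · apply Nat.eq_of_testBit_eq
    intro p
    by_cases hp : p < lg
    · have h3 := h p (List.mem_range.2 hp)
      unfold fixPl at h3
      rw [Nat.beq_eq] at h3
      have h4 : ((papp1 A l (plane p lg) ^^^ (plane p lg)) &&& m).testBit i = false := by
        have : ((papp1 A l (plane p lg) ^^^ (plane p lg)) &&& m) = 0 := h3
        rw [this, Nat.zero_testBit]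
      have hi2 : m.testBit i = true := hi
      rw [Nat.testBit_and, Nat.testBit_xor, hi2, testBit_papp1 hA,
        testBit_plane, testBit_plane, decide_eq_true (s1.lt hi'), decide_eq_true hi'] at h4
      simpa using h4
    · have b : 2 ^ lg ≤ 2 ^ p := Nat.pow_le_pow_right (by norm_num) (by omega)
      rw [Nat.testBit_lt_two_pow ((s1.lt hi').trans_le b), Nat.testBit_lt_two_pow (hi'.trans_le b)]
  · rw [s1 i (by omega)]

theorem last_fixes {A : List Net} (hl : A.length ≤ 128) {t' : ℕ} (ht : t' + 1 = A.length)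
    {B : Set ℕ} (h : ∀ i ∈ B, pp A [gw t'] i = i) : ∀ σ ∈ K A t', ∀ i ∈ B, σ i = i := by
  rw [pp_cons, pp_nil, mul_one, sp_gw A (by omega)] at h
  intro σ hσ i hi
  have : K A t' ≤ MulAction.stabilizer (Perm ℕ) i := K_le fun j h2 h3 => by
    obtain rfl : j = t' := by omega
    exact h i hi
  exact this hσ

theorem mem_bset_of_bit {m i : ℕ} (h : bit m i = true) : i ∈ bset m := by
  rw [bit_eq] at h; exact h

/-- `K A t` modulo its centre `K A t'` is the group `K A' s` -/
theorem quot_last_iso {A A' : List Net} {N N' t t' s b : ℕ} (hA : okA N A = true)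
    (hA' : okA N' A' = true) {B : Set ℕ}
    (h : ∀ σ ∈ K A' s, ∃ g : K A t, Acts (fun i => wp A 1 i) B g σ) (hle : t ≤ t')
    (hb : b ∈ B) (htr : ∀ i ∈ B, ∃ σ ∈ K A' s, σ b = i)
    (hself : ∀ i ∈ B, i ≠ b → ∃ σ ∈ K A' s, σ b = b ∧ σ i ≠ i)
    (hc : ∀ σ ∈ K A t', ∀ τ ∈ K A t, τ * σ = σ * τ) (hfix : ∀ σ ∈ K A t', ∀ i ∈ B, σ i = i)
    (hf : FixTriv (K A' s) B)
    (hcard : Nat.card (K A t) ≤ Nat.card (K A t') * Nat.card (K A' s)) :
    Subgroup.center (K A t) = (K A t').subgroupOf (K A t) ∧
      Nonempty (K A t ⧸ Subgroup.center (K A t) ≃* K A' s) := by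
  have := finite_K hA t
  have := finite_K hA' s
  obtain ⟨h1, h2, ⟨e⟩⟩ := quot_center_iso h (wp A 1).injective.injOn hb htr hself
    ((K A t').subgroupOf (K A t))
    (fun g hg => Subgroup.mem_center_iff.2 fun τ => Subtype.ext (hc _ hg _ τ.2))
    (fun g hg i hi => by
      show (g : Perm ℕ) (wp A 1 i) = wp A 1 i
      rw [wp_one]; exact hfix _ hg i hi) ⊥ bot_le
    (fun σ hσ τ _ => by rw [Subgroup.mem_bot.1 hσ, mul_one, one_mul])
    (fun σ h1 h2 => Subgroup.mem_bot.2 (hf σ h1 h2)) (by
      rw [Nat.card_congr (Subgroup.subgroupOfEquivOfLe (K_mono A hle)).toEquiv]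
      simpa using hcard)
  rw [Subgroup.bot_subgroupOf] at h2
  exact ⟨h1, ⟨(e.trans (QuotientGroup.quotientMulEquivOfEq h2)).trans QuotientGroup.quotientBot⟩⟩

theorem gp_append (A A' : List Net) {j : ℕ} (h : j < A.length) : gp (A ++ A') j = gp A j := by
  unfold gp
  rw [List.getD_eq_getElem?_getD, List.getD_eq_getElem?_getD, List.getElem?_append_left h]

/-- claims `x * g_j = u_j * x` for the networks from `t` on -/
noncomputable def normClaims (x : List ℕ) (t : ℕ) (us : List ℕ) : List Claim :=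
  (us.zipIdx t).map fun q => (x ++ [gw q.2], (2 * q.1) :: x)

theorem norm_of_claims {N : ℕ} {A : List Net} (hA : okA N A = true) (hl : A.length ≤ 128)
    {x : List ℕ} {t : ℕ} {us : List ℕ} (hlen : t + us.length = A.length)
    (hu : allL us (wge t) = true) (h : ∀ c ∈ normClaims x t us, Holds A c) :
    pp A x ∈ Subgroup.normalizer (K A t : Set (Perm ℕ)) := by
  have := finite_K hA t
  have h1 : K A t ≤ conjIn (K A t) (pp A x) := K_le fun j h1 h2 => by
    have hj' : j - t < us.length := by omega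
    have hcl := h (x ++ [gw j], (2 * us[j - t]) :: x) (List.mem_map.2 ⟨(us[j - t], j), by
      rw [List.mk_mem_zipIdx_iff_le_and_getElem?_sub]
      exact ⟨h1, by simp⟩, rfl⟩)
    unfold Holds at hcl
    simp only [pp_append, pp_cons, pp_nil, mul_one, sp_even, sp_gw A (show j < 128 by omega)] at hcl
    rw [mem_conjIn, hcl, mul_inv_cancel_right]
    exact wp_mem (allL_spec hu _ (List.getElem_mem hj'))
  exact Subgroup.mem_normalizer_fintype (S := (K A t : Set (Perm ℕ))) fun n hn => h1 hn

/-- a group generated by a subgroup and an involution normalising it -/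
theorem index_two_ext {G : Type*} [Group G] {H Q : Subgroup G} {x : G}
    (hx : x ∈ Subgroup.normalizer (H : Set G)) (hx2 : x * x ∈ H)
    (hQ : Q ≤ H ⊔ Subgroup.zpowers x) : ∀ g ∈ Q, g ∈ H ∨ x * g ∈ H := by
  have hn := Subgroup.mem_normalizer_iff.1 hx
  let L : Subgroup G :=
    { carrier := {g | g ∈ H ∨ x * g ∈ H}
      one_mem' := Or.inl H.one_mem
      mul_mem' := by
        rintro a b (ha | ha) (hb | hb)
        · exact Or.inl (H.mul_mem ha hb)
        · right
          have := H.mul_mem ((hn a).1 ha) hb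
          rwa [show x * a * x⁻¹ * (x * b) = x * (a * b) by group] at this
        · right; rw [← mul_assoc]; exact H.mul_mem ha hb
        · left
          have h1 : x⁻¹ * (x * a) * x ∈ H := (hn _).2 (by
            rwa [show x * (x⁻¹ * (x * a) * x) * x⁻¹ = x * a by group])
          have := H.mul_mem (H.mul_mem h1 (H.inv_mem hx2)) hb
          rwa [show x⁻¹ * (x * a) * x * (x * x)⁻¹ * (x * b) = a * b by group] at this
      inv_mem' := by
        rintro a (ha | ha)
        · exact Or.inl (H.inv_mem ha)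
        · right
          have := H.mul_mem ((hn _).1 (H.inv_mem ha)) hx2
          rwa [show x * (x * a)⁻¹ * x⁻¹ * (x * x) = x * a⁻¹ by group] at this }
  intro g hg
  have : H ⊔ Subgroup.zpowers x ≤ L := sup_le (fun g hg => Or.inl hg)
    (Subgroup.zpowers_le.2 (Or.inr hx2))
  exact this (hQ hg)

end Cfsg.Agent.Spor
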