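import Cfsg.Agent.Lib.Spor.Glue2

/-!
A class of 3-transpositions outside a simple subgroup of index two.
-/

set_option autoImplicit false

namespace Cfsg.Agent.Spor

open Subgroup

theorem card_of_two_cosets {Γ : Type*} [Group Γ] {H Q : Subgroup Γ} {x : Γ} (hle : H ≤ Q)
    (hx : x ∈ Q) (hxH : x ∉ H) (hx2 : x * x = 1) (h : ∀ g ∈ Q, g ∈ H ∨ x * g ∈ H) :
    (H.subgroupOf Q).index = 2 ∧ Nat.card Q = 2 * Nat.card H := by
  have hi : x⁻¹ = x := inv_eq_of_mul_eq_one_right hx2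
  have h1 : (H.subgroupOf Q).index = 2 := by
    rw [index_eq_two_iff']
    refine ⟨⟨x, hx⟩, fun b => ?_⟩
    simp only [mem_subgroupOf, coe_mul]
    rcases h b b.2 with h1 | h1
    · refine Or.inr ⟨h1, fun h2 => hxH ?_⟩
      simpa using H.mul_mem h2 (H.inv_mem h1)
    · refine Or.inl ⟨h1, fun h2 => hxH ?_⟩
      simpa using H.mul_mem h1 (H.inv_mem h2)
  refine ⟨h1, ?_⟩
  rw [← index_mul_card (H.subgroupOf Q), h1, Nat.card_congr (subgroupOfEquivOfLe hle).toEquiv]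

theorem transp_ext {Γ : Type*} [Group Γ] {H S : Subgroup Γ} [Finite H] [IsSimpleGroup H] {d : Γ}
    (hd2 : d * d = 1) (hdH : d ∉ H) (hn : ∀ h ∈ H, d * h * d⁻¹ ∈ H) (hS : S ≤ H)
    (hmax : ∀ L, S ≤ L → L ≤ H → L = S ∨ L = H) (hc : ∀ s ∈ S, s * d = d * s)
    (hne : ∃ x ∈ H, x * d ≠ d * x) {R : Set Γ}
    (hdc : ∀ h ∈ H, h ∈ S ∨ ∃ k ∈ S, ∃ r ∈ R, r ∈ H ∧ ∃ s ∈ S, h = k * r * s)
    (hR : ∀ r ∈ R, (d * (r * d * r⁻¹)) ^ 2 = 1 ∨ (d * (r * d * r⁻¹)) ^ 3 = 1) :
    ∃ (Q : Subgroup Γ) (hd : d ∈ Q), H ≤ Q ∧ Finite Q ∧ (H.subgroupOf Q).index = 2 ∧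
      Nat.card Q = 2 * Nat.card H ∧
      Cfsg.IsThreeTranspositionClass (conjugatesOf (⟨d, hd⟩ : Q)) ∧
      Nat.card (centralizer ({⟨d, hd⟩} : Set Q)) = 2 * Nat.card S ∧
      S.subgroupOf Q ≤ centralizer ({⟨d, hd⟩} : Set Q) := by
  have hi : d⁻¹ = d := inv_eq_of_mul_eq_one_right hd2
  have hnn : d ∈ normalizer (H : Set Γ) := mem_normalizer_fintype (S := (H : Set Γ)) hn
  have hd : d ∈ H ⊔ zpowers d := mem_sup_right (mem_zpowers d)
  have hcos := index_two_ext hnn (hd2 ▸ H.one_mem) (le_refl (H ⊔ zpowers d))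
  obtain ⟨h1, h2⟩ := card_of_two_cosets le_sup_left hd hdH hd2 hcos
  have hfin : Finite (H ⊔ zpowers d : Subgroup Γ) := by
    apply Nat.finite_of_card_ne_zero
    rw [h2]; exact mul_ne_zero two_ne_zero Nat.card_pos.ne'
  have hd1 : d ≠ 1 := fun e => hdH (e ▸ H.one_mem)
  have hCH : ∀ h ∈ H, h * d = d * h → h ∈ S := by
    rcases hmax (H ⊓ centralizer {d}) (fun s hs => ⟨hS hs,
      mem_centralizer_singleton_iff.2 (hc s hs)⟩) inf_le_left with e | e
    · intro h hh hh'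
      rw [← e]; exact ⟨hh, mem_centralizer_singleton_iff.2 hh'⟩
    · obtain ⟨x, hx, hx'⟩ := hne
      rw [← e] at hx
      exact absurd (mem_centralizer_singleton_iff.1 hx.2) hx'
  refine ⟨H ⊔ zpowers d, hd, le_sup_left, hfin, h1, h2, ?_, ?_, ?_⟩
  · have hle : H ≤ H ⊔ zpowers d := le_sup_left
    have key : ∀ g : (H ⊔ zpowers d : Subgroup Γ), (g : Γ) ∈ H → ∃ k : (H ⊔ zpowers d : Subgroup Γ),
        k * ⟨d, hd⟩ = ⟨d, hd⟩ * k ∧ ∃ r ∈ {x : (H ⊔ zpowers d : Subgroup Γ) | x = 1 ∨ (x : Γ) ∈ R},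
        ∃ s : (H ⊔ zpowers d : Subgroup Γ), s * ⟨d, hd⟩ = ⟨d, hd⟩ * s ∧ g = k * r * s := by
      intro g hg
      rcases hdc g hg with h | ⟨k, hk, r, hr, hrH, s, hs, e⟩
      · exact ⟨g, Subtype.ext (hc _ h), 1, Or.inl rfl, 1, by simp, by simp⟩
      · exact ⟨⟨k, hle (hS hk)⟩, Subtype.ext (hc _ hk), ⟨r, hle hrH⟩, Or.inr hr,
          ⟨s, hle (hS hs)⟩, Subtype.ext (hc _ hs), Subtype.ext e⟩
    refine threeTransp_of_dc (R := {x | x = 1 ∨ (x : Γ) ∈ R}) ?_ ?_ ?_ ?_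
    · have : Fact (Nat.Prime 2) := ⟨Nat.prime_two⟩
      exact orderOf_eq_prime (Subtype.ext (by simpa [sq] using hd2))
        (fun e => hd1 (congrArg Subtype.val e))
    · intro g
      rcases hcos g g.2 with h | h
      · exact key g h
      · obtain ⟨k, hk, r, hr, s, hs, e⟩ := key (⟨d, hd⟩ * g) h
        refine ⟨⟨d, hd⟩ * k, by rw [mul_assoc, hk], r, hr, s, hs, ?_⟩
        have h3 : (⟨d, hd⟩ : (H ⊔ zpowers d : Subgroup Γ)) * ⟨d, hd⟩ = 1 := Subtype.ext hd2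
        rw [mul_assoc, mul_assoc, ← mul_assoc k, ← e, ← mul_assoc, h3, one_mul]
    · rintro x (rfl | hx)
      · left
        apply Subtype.ext
        simp only [one_mul, inv_one, mul_one, SubgroupClass.coe_pow, coe_mul, OneMemClass.coe_one]
        rw [hd2, one_pow]
      · rcases hR x hx with h | h
        · left; exact Subtype.ext h
        · right; exact Subtype.ext h
    · have hN := closure_conjugatesOf_normal (⟨d, hd⟩ : (H ⊔ zpowers d : Subgroup Γ))
      set M := closure (conjugatesOf (⟨d, hd⟩ : (H ⊔ zpowers d : Subgroup Γ)))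
      have hdM : (⟨d, hd⟩ : (H ⊔ zpowers d : Subgroup Γ)) ∈ M := subset_closure (IsConj.refl _)
      rcases (hN.comap (inclusion hle)).eq_bot_or_eq_top with e | e
      · obtain ⟨x, hx, hx'⟩ := hne
        have h3 : (⟨d * x * d⁻¹ * x⁻¹, H.mul_mem (hn x hx) (H.inv_mem hx)⟩ : H) ∈
            M.comap (inclusion hle) := by
          have := M.mul_mem hdM (hN.conj_mem _ (M.inv_mem hdM) ⟨x, hle hx⟩)
          rw [mem_comap]
          convert this using 1
          apply Subtype.ext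
          simp [mul_assoc]
        rw [e, mem_bot] at h3
        have h4 : d * x * d⁻¹ * x⁻¹ = 1 := congrArg Subtype.val h3
        refine absurd ?_ hx'
        rw [mul_inv_eq_one, mul_inv_eq_iff_eq_mul] at h4
        exact h4.symm
      · rw [eq_top_iff]
        have h3 : ∀ g : (H ⊔ zpowers d : Subgroup Γ), (g : Γ) ∈ H → g ∈ M := fun g hg =>
          (e.symm ▸ mem_top (⟨g, hg⟩ : H) : (⟨g, hg⟩ : H) ∈ M.comap (inclusion hle))
        rintro g -
        rcases hcos g g.2 with h | h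
        · exact h3 g h
        · simpa using M.mul_mem (M.inv_mem hdM) (h3 (⟨d, hd⟩ * g) h)
  · have := card_of_two_cosets (H := S.subgroupOf (H ⊔ zpowers d))
      (Q := centralizer ({⟨d, hd⟩} : Set (H ⊔ zpowers d : Subgroup Γ))) (x := ⟨d, hd⟩)
      (fun s hs => mem_centralizer_singleton_iff.2 (Subtype.ext (hc s hs)))
      (mem_centralizer_singleton_iff.2 rfl) (fun h => hdH (hS h)) (Subtype.ext hd2) (fun g hg => by
        have hg' : (g : Γ) * d = d * g := congrArg Subtype.val (mem_centralizer_singleton_iff.1 hg)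
        rcases hcos g g.2 with h | h
        · exact Or.inl (hCH _ h hg')
        · exact Or.inr (hCH (d * g) h (by rw [mul_assoc, hg'])))
    rw [this.2, Nat.card_congr (subgroupOfEquivOfLe (hS.trans le_sup_left)).toEquiv]
  · exact fun s hs => mem_centralizer_singleton_iff.2 (Subtype.ext (hc _ hs))

/-- transport of a subgroup of a centraliser to a conjugate -/
theorem exists_le_centralizer_of_isConj {G : Type*} [Group G] {a b : G} (h : IsConj a b)
    {T : Subgroup G} (hT : T ≤ centralizer ({a} : Set G)) :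
    ∃ T' : Subgroup G, T' ≤ centralizer ({b} : Set G) ∧ Nonempty (T ≃* T') := by
  obtain ⟨g, rfl⟩ := isConj_iff.1 h
  refine ⟨_, ?_, ⟨(MulAut.conj g : G ≃* G).subgroupMap T⟩⟩
  rintro _ ⟨x, hx, rfl⟩
  have := mem_centralizer_singleton_iff.1 (hT hx)
  refine mem_centralizer_singleton_iff.2 ?_
  simp only [MonoidHom.coe_coe, MulAut.conj_apply]
  calc g * x * g⁻¹ * (g * a * g⁻¹) = g * (x * a) * g⁻¹ := by group
    _ = _ := by rw [this]; group

open Cfsg.Agent.PG in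
/-- `K A t0` is isomorphic to `K A' t` -/
theorem sub_iso_top {A A' : List Net} {t0 t : ℕ} {ws : List ℕ} {B : Set ℕ} {π : Equiv.Perm ℕ}
    [Finite (K A t0)] (h : ∀ j, t ≤ j → j < A'.length →
      Acts (fun i => π i) B (wp A (nthD 1 ws (j - t))) (gp A' j))
    (hw : allL ws (wge t0) = true) (hf : FixTriv (K A' t) B)
    (hf' : FixTriv (K A t0) ((fun i => π i) '' B)) (hc : Nat.card (K A t0) = Nat.card (K A' t)) :
    Nonempty (K A t0 ≃* K A' t) := by
  obtain ⟨S, hS, ⟨e⟩⟩ := sub_iso h hw hf hf'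
  obtain rfl : S = K A t0 := eq_of_le_of_card_ge hS (by rw [hc, Nat.card_congr e.toEquiv])
  exact ⟨e⟩

end Cfsg.Agent.Spor
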