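import Cfsg.Agent.Lib.Spor.Glue3

/-!
Words evaluated in an arbitrary group.  If the claims of a stabiliser chain hold for elements of
a group `Γ`, the map on the generators extends to a homomorphism.  A double coset enumeration
for a group generated by the image and one more element.
-/

set_option autoImplicit false

namespace Cfsg.Agent.Spor

open Cfsg.Agent.PG Equiv

section Words

variable {Γ Δ : Type*} [Group Γ] [Group Δ]

/-- the value of a letter -/
noncomputable def lpG (γ : ℕ → Γ) (c : ℕ) : Γ := if c % 2 = 1 then (γ (c / 2))⁻¹ else γ (c / 2)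

/-- the value of a word, with fuel -/
noncomputable def wpFG (γ : ℕ → Γ) (f : ℕ) : ℕ → Γ :=
  Nat.rec (motive := fun _ => ℕ → Γ) (fun _ => 1)
    (fun _ ih w => if w ≤ 1 then 1 else lpG γ (w % 256) * ih (w / 256)) f

/-- the value of a word -/
noncomputable def wpG (γ : ℕ → Γ) (w : ℕ) : Γ := wpFG γ w w

/-- the value of a signed word -/
noncomputable def spG (γ : ℕ → Γ) (s : ℕ) : Γ :=
  if s % 2 = 1 then (wpG γ (s / 2))⁻¹ else wpG γ (s / 2)

/-- the value of a product of signed words -/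
noncomputable def ppG (γ : ℕ → Γ) (l : List ℕ) : Γ := (l.map (spG γ)).prod

/-- the claim holds -/
def HoldsG (γ : ℕ → Γ) (c : Claim) : Prop := ppG γ c.1 = ppG γ c.2

/-- the group generated by the letters from `t` on -/
noncomputable def KG (γ : ℕ → Γ) (t : ℕ) : Subgroup Γ :=
  Subgroup.closure {x | ∃ j, t ≤ j ∧ γ j = x}

theorem wp_eq (A : List Net) (w : ℕ) : wp A w = wpG (gp A) w := rfl

theorem pp_eq (A : List Net) (l : List ℕ) : pp A l = ppG (gp A) l := rfl

theorem K_eq (A : List Net) (t : ℕ) : K A t = KG (gp A) t := rfl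

@[simp] theorem ppG_nil (γ : ℕ → Γ) : ppG γ [] = 1 := rfl

@[simp] theorem ppG_cons (γ : ℕ → Γ) (s : ℕ) (l : List ℕ) :
    ppG γ (s :: l) = spG γ s * ppG γ l := by simp [ppG]

theorem ppG_append (γ : ℕ → Γ) (l l' : List ℕ) : ppG γ (l ++ l') = ppG γ l * ppG γ l' := by
  simp [ppG]

theorem spG_even (γ : ℕ → Γ) (w : ℕ) : spG γ (2 * w) = wpG γ w := by
  unfold spG; rw [if_neg (by omega)]; congr 1; omega

theorem spG_odd (γ : ℕ → Γ) (w : ℕ) : spG γ (2 * w + 1) = (wpG γ w)⁻¹ := by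
  unfold spG; rw [if_pos (by omega)]; congr 2; omega

theorem wpG_letter (γ : ℕ → Γ) {c : ℕ} (hc : c < 256) : wpG γ (256 + c) = lpG γ c := by
  have e : 256 + c = (254 + c) + 1 + 1 := by omega
  have h : ∀ w, wpFG γ (254 + c + 1 + 1) w = if w ≤ 1 then 1 else lpG γ (w % 256) *
      (if w / 256 ≤ 1 then 1 else lpG γ (w / 256 % 256) * wpFG γ (254 + c) (w / 256 / 256)) :=
    fun _ => rfl
  show wpFG γ (256 + c) (256 + c) = _
  conv_lhs => enter [2]; rw [e]
  rw [h, if_neg (by omega), if_pos (by omega), mul_one]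
  congr 1; omega

theorem wpG_one (γ : ℕ → Γ) : wpG γ 1 = 1 := by
  have h : wpG γ 1 = if 1 ≤ 1 then 1 else lpG γ (1 % 256) * 1 := rfl
  rw [h, if_pos le_rfl]

theorem spG_gw (γ : ℕ → Γ) {j : ℕ} (hj : j < 128) : spG γ (gw j) = γ j := by
  have : gw j = 2 * (256 + 2 * j) := by show 512 + 4 * j = _; omega
  rw [this, spG_even, wpG_letter γ (by omega)]
  unfold lpG
  rw [if_neg (by omega)]; congr 1; omega

theorem spG_gw_inv (γ : ℕ → Γ) {j : ℕ} (hj : j < 128) : spG γ (gw j + 1) = (γ j)⁻¹ := by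
  have : gw j = 2 * (256 + 2 * j) := by show 512 + 4 * j = _; omega
  rw [← spG_gw γ hj, this, spG_odd, spG_even]

theorem ppG_powP (γ : ℕ → Γ) (y : List ℕ) (n : ℕ) : ppG γ (powP y n) = ppG γ y ^ n := by
  induction n with
  | zero => simp [powP]
  | succ n ih =>
    unfold powP at ih ⊢
    rw [List.replicate_succ, List.flatten_cons, ppG_append, ih, pow_succ']

theorem map_wpFG (f : Γ →* Δ) (γ : ℕ → Γ) (n w : ℕ) :
    f (wpFG γ n w) = wpFG (fun j => f (γ j)) n w := by
  induction n generalizing w with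
  | zero => exact map_one f
  | succ n ih =>
    show f (if w ≤ 1 then 1 else lpG γ (w % 256) * wpFG γ n (w / 256)) =
      if w ≤ 1 then 1 else lpG _ (w % 256) * wpFG _ n (w / 256)
    split_ifs
    · exact map_one f
    · rw [map_mul, ih]
      congr 1
      unfold lpG
      split_ifs <;> simp

theorem map_wpG (f : Γ →* Δ) (γ : ℕ → Γ) (w : ℕ) : f (wpG γ w) = wpG (fun j => f (γ j)) w :=
  map_wpFG f γ w w

theorem map_ppG (f : Γ →* Δ) (γ : ℕ → Γ) (l : List ℕ) :
    f (ppG γ l) = ppG (fun j => f (γ j)) l := by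
  induction l with
  | nil => exact map_one f
  | cons s l ih =>
    rw [ppG_cons, ppG_cons, map_mul, ih]
    congr 1
    unfold spG
    split_ifs <;> simp [map_wpG]

theorem wpFG_congr {γ γ' : ℕ → Γ} {t f w : ℕ} (hγ : ∀ j, t ≤ j → γ j = γ' j)
    (h : wgeF t f w = true) : wpFG γ f w = wpFG γ' f w := by
  induction f generalizing w with
  | zero => rfl
  | succ f ih =>
    show (if w ≤ 1 then 1 else lpG γ (w % 256) * wpFG γ f (w / 256)) =
      if w ≤ 1 then 1 else lpG γ' (w % 256) * wpFG γ' f (w / 256)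
    split_ifs with hw
    · rfl
    · have h' : iteB (Nat.ble w 1) true
        (andB (Nat.ble (2 * t) (w % 256)) (wgeF t f (w / 256))) = true := h
      have : Nat.ble w 1 = false := by rw [← Bool.not_eq_true, Nat.ble_eq]; exact hw
      rw [this, iteB_false, andB_eq, Bool.and_eq_true, Nat.ble_eq] at h'
      rw [ih h'.2]
      unfold lpG
      rw [hγ _ (show t ≤ w % 256 / 2 by omega)]

theorem mem_KG (γ : ℕ → Γ) {t j : ℕ} (h : t ≤ j) : γ j ∈ KG γ t :=
  Subgroup.subset_closure ⟨j, h, rfl⟩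

theorem KG_le {γ : ℕ → Γ} {t : ℕ} {Q : Subgroup Γ} (h : ∀ j, t ≤ j → γ j ∈ Q) : KG γ t ≤ Q := by
  unfold KG
  rw [Subgroup.closure_le]
  rintro _ ⟨j, hj, rfl⟩
  exact h j hj

theorem KG_mono (γ : ℕ → Γ) {t t' : ℕ} (h : t ≤ t') : KG γ t' ≤ KG γ t :=
  KG_le fun _ hj => mem_KG γ (h.trans hj)

theorem wpG_mem_of {γ : ℕ → Γ} {Q : Subgroup Γ} {t w : ℕ} (hQ : ∀ j, t ≤ j → γ j ∈ Q)
    (h : wge t w = true) : wpG γ w ∈ Q := by
  classical
  have h1 := map_wpG Q.subtype (fun j => if hj : t ≤ j then ⟨γ j, hQ j hj⟩ else 1) w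
  have h2 : wpG (fun j => Q.subtype (if hj : t ≤ j then ⟨γ j, hQ j hj⟩ else 1)) w = wpG γ w :=
    wpFG_congr (fun j hj => by rw [dif_pos hj]; rfl) h
  rw [← h2, ← h1]
  exact Subtype.prop _

theorem wpG_mem {γ : ℕ → Γ} {t w : ℕ} (h : wge t w = true) : wpG γ w ∈ KG γ t :=
  wpG_mem_of (fun _ hj => mem_KG γ hj) h

theorem ppG_mem {γ : ℕ → Γ} {t : ℕ} {l : List ℕ} (h : pge t l = true) : ppG γ l ∈ KG γ t := by
  have h1 := allL_spec h
  clear h
  induction l with
  | nil => exact Subgroup.one_mem _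
  | cons s l ih =>
    rw [ppG_cons]
    refine Subgroup.mul_mem _ ?_ (ih fun a ha => h1 a (List.mem_cons_of_mem _ ha))
    have h2 := h1 s List.mem_cons_self
    rw [force_eq] at h2
    have h3 : wpG γ (s / 2) ∈ KG γ t := wpG_mem h2
    unfold spG
    split_ifs
    · exact Subgroup.inv_mem _ h3
    · exact h3

theorem wge_zero (w : ℕ) : wge 0 w = true := by
  have : ∀ f w, wgeF 0 f w = true := by
    intro f
    induction f with
    | zero => intro w; rfl
    | succ f ih =>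
      intro w
      show iteB (Nat.ble w 1) true (andB (Nat.ble (2 * 0) (w % 256)) (wgeF 0 f (w / 256))) = true
      rw [ih]
      cases Nat.ble w 1 <;> simp
  exact this w w

theorem ppG_mem_zero (γ : ℕ → Γ) (l : List ℕ) : ppG γ l ∈ KG γ 0 :=
  ppG_mem (by
    unfold pge
    induction l with
    | nil => rfl
    | cons s l ih =>
      show andB (force _ _) (allL l _) = true
      rw [force_eq, wge_zero, ih]; rfl)

end Words

section Lift

variable {Γ : Type*} [Group Γ]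

/-- `φ` sends the networks from `t` on to the letters -/
def IsLift (A : List Net) (γ : ℕ → Γ) (t : ℕ) (φ : K A t →* Γ) : Prop :=
  ∀ j (h : t ≤ j), φ ⟨gp A j, gp_mem_K A h⟩ = γ j

/-- the map on the generators extends to a homomorphism -/
def Lift (A : List Net) (γ : ℕ → Γ) (t : ℕ) : Prop := ∃ φ : K A t →* Γ, IsLift A γ t φ

variable {A : List Net} {γ : ℕ → Γ} {t : ℕ}

theorem IsLift.wp {φ : K A t →* Γ} (hφ : IsLift A γ t φ) {w : ℕ} (h : wge t w = true) :
    φ ⟨wp A w, wp_mem h⟩ = wpG γ w := by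
  classical
  let δ : ℕ → K A t := fun j => if hj : t ≤ j then ⟨gp A j, gp_mem_K A hj⟩ else 1
  have h1 : (⟨PG.wp A w, wp_mem h⟩ : K A t) = wpG δ w := by
    apply Subtype.ext
    show PG.wp A w = (K A t).subtype (wpG δ w)
    rw [map_wpG, wp_eq]
    exact wpFG_congr (fun j hj => by simp only [δ, dif_pos hj]; rfl) h
  rw [h1, map_wpG]
  exact wpFG_congr (fun j hj => by simp only [δ, dif_pos hj]; exact hφ j hj) h

theorem IsLift.pp {φ : K A t →* Γ} (hφ : IsLift A γ t φ) {l : List ℕ} (h : pge t l = true) :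
    φ ⟨pp A l, pp_mem h⟩ = ppG γ l := by
  induction l with
  | nil => exact map_one φ
  | cons s l ih =>
    have h' : andB (force (Nat.div s 2) (wge t)) (pge t l) = true := h
    rw [andB_eq, Bool.and_eq_true, force_eq] at h'
    have h3 : wge t (s / 2) = true := h'.1
    rw [ppG_cons, ← ih h'.2]
    unfold spG
    rw [← hφ.wp h3]
    split_ifs with hs
    · rw [← map_inv, ← map_mul]
      congr 1
      apply Subtype.ext
      simp only [pp_cons, sp, if_pos hs]; rfl
    · rw [← map_mul]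
      congr 1
      apply Subtype.ext
      simp only [pp_cons, sp, if_neg hs]; rfl

theorem IsLift.range {φ : K A t →* Γ} (hφ : IsLift A γ t φ) : φ.range = KG γ t := by
  apply le_antisymm
  · rintro _ ⟨⟨σ, hσ⟩, rfl⟩
    have : K A t ≤ ((KG γ t).comap φ).map (K A t).subtype := K_le fun j hj _ =>
      ⟨⟨gp A j, gp_mem_K A hj⟩, by
        show φ _ ∈ KG γ t
        rw [hφ j hj]; exact mem_KG γ hj, rfl⟩
    obtain ⟨⟨_, _⟩, h1, rfl⟩ := this hσ
    exact h1
  · exact KG_le fun j hj => ⟨_, hφ j hj⟩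

theorem IsLift.mono {φ : K A t →* Γ} (hφ : IsLift A γ t φ) {t' : ℕ} (h : t ≤ t') :
    IsLift A γ t' (φ.comp (Subgroup.inclusion (K_mono A h))) :=
  fun j hj => hφ j (h.trans hj)

theorem IsLift.image {φ : K A t →* Γ} (hφ : IsLift A γ t φ) {t' : ℕ} (h : t ≤ t') {σ : K A t}
    (hσ : (σ : Perm ℕ) ∈ K A t') : φ σ ∈ KG γ t' := by
  rw [← (hφ.mono h).range]
  exact ⟨⟨σ, hσ⟩, rfl⟩

theorem IsLift.prod {φ : K A t →* Γ} (hφ : IsLift A γ t φ) :
    IsLift A (fun j => (gp A j, γ j)) t ((K A t).subtype.prod φ) :=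
  fun j hj => Prod.ext rfl (hφ j hj)

theorem holdsG_prod {c : Claim} (h1 : Holds A c) (h2 : HoldsG γ c) :
    HoldsG (fun j => (gp A j, γ j)) c := by
  have e1 := map_ppG (MonoidHom.fst (Perm ℕ) Γ) (fun j => (gp A j, γ j))
  have e2 := map_ppG (MonoidHom.snd (Perm ℕ) Γ) (fun j => (gp A j, γ j))
  apply Prod.ext
  · exact (e1 c.1).trans (Eq.trans h1 (e1 c.2).symm)
  · exact (e2 c.1).trans (Eq.trans h2 (e2 c.2).symm)

theorem lift_of_inj
    (h : ∀ x ∈ KG (fun j => (gp A j, γ j)) t, x.1 = 1 → x = 1) : Lift A γ t := by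
  let Q := KG (fun j => (gp A j, γ j)) t
  have h0 : Q ≤ (K A t).comap (MonoidHom.fst (Perm ℕ) Γ) := KG_le fun j hj => gp_mem_K A hj
  have h1 : ∀ x : Q, ((MonoidHom.fst _ _).comp Q.subtype) x ∈ K A t := fun x => h0 x.2
  let f : Q →* K A t := ((MonoidHom.fst _ _).comp Q.subtype).codRestrict _ h1
  have hf : Function.Bijective f := by
    constructor
    · rw [injective_iff_map_eq_one]
      intro x hx
      exact Subtype.ext (h x x.2 (congrArg Subtype.val hx))
    · rintro ⟨σ, hσ⟩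
      have : K A t ≤ Q.map (MonoidHom.fst _ _) := K_le fun j hj _ => ⟨_, mem_KG _ hj, rfl⟩
      obtain ⟨x, hx, rfl⟩ := this hσ
      exact ⟨⟨x, hx⟩, rfl⟩
  let e := MulEquiv.ofBijective f hf
  refine ⟨((MonoidHom.snd _ _).comp Q.subtype).comp e.symm.toMonoidHom, fun j hj => ?_⟩
  have : e ⟨_, mem_KG (fun j => (gp A j, γ j)) hj⟩ = ⟨gp A j, gp_mem_K A hj⟩ := rfl
  rw [← this]
  simp

theorem lift_last (hγ : ∀ j, t ≤ j → γ j = 1) : Lift A γ t :=
  ⟨1, fun j hj => (hγ j hj).symm⟩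

theorem plain_cosetsG {t' : ℕ} {tr : List ℕ} {cert : List (List (ℕ × ℕ))}
    (hγ : ∀ j, A.length ≤ j → γ j = 1)
    (h : plainShape A t t' tr cert = true) (hc : ∀ c ∈ plainClaims t tr cert, HoldsG γ c) :
    ∀ σ ∈ KG γ t, ∃ w ∈ tr, (wpG γ w)⁻¹ * σ ∈ KG γ t' := by
  unfold plainShape at h
  simp only [andB_eq, Bool.and_eq_true, Nat.ble_eq, Nat.beq_eq] at h
  obtain ⟨h1, h2, h3, h4, h5⟩ := h
  have h6 : 1 ∈ tr := by
    rcases nthD_mem_or 0 tr 0 with h | h
    · omega
    · rwa [h4] at h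
  intro σ hσ
  obtain ⟨_, ⟨w, hw, rfl⟩, e⟩ := schreier_plain (K := KG γ t') (T := wpG γ '' {w | w ∈ tr})
    ((List.finite_toSet tr).image _) ⟨1, h6, wpG_one γ⟩ (by
      rintro _ ⟨j, hj, rfl⟩ _ ⟨w, hw, rfl⟩
      by_cases hjl : j < A.length
      · obtain ⟨i, hi, rfl⟩ := List.getElem_of_mem hw
        have hi' : i < cert.length := by omega
        have hrow := allL_spec h5 _ (List.getElem_mem hi')
        simp only [Bool.and_eq_true, Nat.beq_eq] at hrow
        have hj' : j - t < cert[i].length := by omega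
        have hu := allL_spec hrow.2 _ (List.getElem_mem hj')
        have hcl := hc ([gw j, 2 * tr[i], 2 * (cert[i][j - t]).2], [2 * nthD 1 tr (cert[i][j - t]).1])
          (by
            unfold plainClaims
            rw [List.mem_flatMap]
            refine ⟨(tr[i], cert[i]), ?_, ?_⟩
            · rw [List.mem_iff_getElem]
              exact ⟨i, by simp [List.length_zip]; omega, by simp⟩
            · rw [List.mem_map]
              refine ⟨(cert[i][j - t], j), ?_, rfl⟩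
              rw [List.mk_mem_zipIdx_iff_le_and_getElem?_sub]
              exact ⟨hj, by simp⟩)
        unfold HoldsG at hcl
        simp only [ppG_cons, ppG_nil, mul_one, spG_even, spG_gw γ (show j < 128 by omega)] at hcl
        refine ⟨wpG γ (nthD 1 tr (cert[i][j - t]).1), ⟨_, ?_, rfl⟩, ?_⟩
        · rcases nthD_mem_or 1 tr (cert[i][j - t]).1 with h | h
          · rw [h]; exact h6
          · exact h
        · rw [← hcl]
          have : (γ j * (wpG γ tr[i] * wpG γ (cert[i][j - t]).2))⁻¹ * (γ j * wpG γ tr[i]) =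
              (wpG γ (cert[i][j - t]).2)⁻¹ := by group
          rw [this]
          exact Subgroup.inv_mem _ (wpG_mem hu)
      · refine ⟨_, ⟨w, hw, rfl⟩, ?_⟩
        rw [hγ j (by omega), one_mul, inv_mul_cancel]
        exact Subgroup.one_mem _) σ hσ
  exact ⟨w, hw, e⟩

theorem eq_one_of_lift {φ : K A t →* Γ} (hφ : IsLift A γ t φ) {x : Perm ℕ × Γ}
    (hx : x ∈ KG (fun j => (gp A j, γ j)) t) (h1 : x.1 = 1) : x = 1 := by
  rw [← hφ.prod.range] at hx
  obtain ⟨σ, rfl⟩ := hx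
  have : σ = 1 := Subtype.ext h1
  rw [this, map_one]

theorem fst_mem_K {x : Perm ℕ × Γ} (hx : x ∈ KG (fun j => (gp A j, γ j)) t) : x.1 ∈ K A t := by
  have h0 : KG (fun j => (gp A j, γ j)) t ≤ (K A t).comap (MonoidHom.fst (Perm ℕ) Γ) :=
    KG_le fun j hj => gp_mem_K A hj
  exact h0 hx

theorem fst_wpG (w : ℕ) : (wpG (fun j => (gp A j, γ j)) w).1 = wp A w :=
  map_wpG (MonoidHom.fst _ _) (fun j => (gp A j, γ j)) w

theorem lift_plain {N : ℕ} (hA : okA N A = true) {t' b : ℕ} {tr : List ℕ}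
    {cert : List (List (ℕ × ℕ))} (hγ : ∀ j, A.length ≤ j → γ j = 1) (hl : Lift A γ t')
    (h : plainOK A t t' b tr cert = true) (hc : ∀ c ∈ plainClaims t tr cert, Holds A c)
    (hc' : ∀ c ∈ plainClaims t tr cert, HoldsG γ c) : Lift A γ t := by
  obtain ⟨φ, hφ⟩ := hl
  unfold plainOK at h
  simp only [andB_eq, Bool.and_eq_true] at h
  obtain ⟨h1, h2, h3⟩ := h
  have hcos := plain_cosetsG (γ := fun j => (gp A j, γ j))
    (fun j hj => Prod.ext (gp_of_le hj) (hγ j hj)) h1 fun c hm => holdsG_prod (hc c hm) (hc' c hm)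
  unfold plainShape at h1
  simp only [andB_eq, Bool.and_eq_true, Nat.ble_eq, Nat.beq_eq] at h1
  refine lift_of_inj fun x hx hx1 => ?_
  obtain ⟨w, hw, e⟩ := hcos x hx
  rcases mem_head_or_drop hw with h4 | h4
  · rw [h4, h1.2.2.2.1, wpG_one, inv_one, one_mul] at e
    exact eq_one_of_lift hφ e hx1
  · exfalso
    apply moved_of_not_bit hA (allL_spec h3 w h4)
    have := stabB_shl.1 (K_le_stabB hA h1.2.1 h2 (fst_mem_K e))
    rw [Prod.fst_mul, hx1, mul_one, Prod.fst_inv, fst_wpG, Perm.inv_eq_iff_eq] at this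
    exact this.symm

/-- the part of the structural test of a double coset level that does not use the new network -/
noncomputable def topShape (A : List Net) (t t'' β O : ℕ) (cj : List ℕ) (reps : List Rep) : Bool :=
  andB (Nat.ble A.length 128) <| andB (Nat.blt t 128) <|
  andB (Nat.beq (t'' + cj.length) A.length) <| andB (allL cj (wge (t + 1))) <|
  andB (Nat.beq (nthD 0 (reps.map Rep.g) 0) 1) <| closedB A (t + 1) β O

theorem conj_of_cj {φ : K A (t + 1) →* Γ} (hφ : IsLift A γ (t + 1) φ) {t'' β O : ℕ}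
    {cj : List ℕ} {reps : List Rep} (hle : t + 1 ≤ t'') (h : topShape A t t'' β O cj reps = true)
    (hc : ∀ c ∈ dcClaims t t'' cj reps, HoldsG γ c) :
    KG γ t'' ≤ conjIn (KG γ (t + 1)) (γ t) := by
  unfold topShape at h
  simp only [andB_eq, Bool.and_eq_true, Nat.ble_eq, Nat.beq_eq, Nat.blt_eq] at h
  obtain ⟨h1, ht, h4, h5, -⟩ := h
  apply KG_le
  intro j hj
  by_cases hjl : j < A.length
  · have hj' : j - t'' < cj.length := by omega
    have hcl := hc ([gw t, gw j], [2 * cj[j - t''], gw t]) (by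
      unfold dcClaims
      rw [List.mem_append]; left
      rw [List.mem_map]
      refine ⟨(cj[j - t''], j), ?_, rfl⟩
      rw [List.mk_mem_zipIdx_iff_le_and_getElem?_sub]
      exact ⟨hj, by simp⟩)
    unfold HoldsG at hcl
    simp only [ppG_cons, ppG_nil, mul_one, spG_even, spG_gw γ (show j < 128 by omega),
      spG_gw γ ht] at hcl
    rw [mem_conjIn, hcl, mul_inv_cancel_right]
    exact wpG_mem (allL_spec h5 _ (List.getElem_mem hj'))
  · have : γ j = 1 := by
      rw [← hφ j (by omega), ← map_one φ]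
      congr 1
      exact Subtype.ext (gp_of_le (by omega))
    rw [this]; exact Subgroup.one_mem _

/-- the elements of `K A t` whose images are conjugated into the image by `g⁻¹` -/
noncomputable def stabD (φ : K A t →* Γ) (g : Γ) : Subgroup (Perm ℕ) :=
  ((conjIn φ.range g⁻¹).comap φ).map (K A t).subtype

theorem mem_stabD {φ : K A t →* Γ} {g : Γ} {σ : Perm ℕ} :
    σ ∈ stabD φ g ↔ ∃ h : σ ∈ K A t, g⁻¹ * φ ⟨σ, h⟩ * g ∈ φ.range := by
  constructor
  · rintro ⟨⟨σ, h⟩, h1, rfl⟩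
    exact ⟨h, by simpa [mem_conjIn] using h1⟩
  · rintro ⟨h, h1⟩
    exact ⟨⟨σ, h⟩, by simpa [mem_conjIn] using h1, rfl⟩

theorem stabD_le (φ : K A t →* Γ) (g : Γ) : stabD φ g ≤ K A t := Subgroup.map_subtype_le _

theorem ms_mem_stabD {φ : K A (t + 1) →* Γ} (hφ : IsLift A γ (t + 1) φ) {t'' β O : ℕ}
    {cj : List ℕ} {reps : List Rep} {R : Rep} (hR : R ∈ reps)
    (hr : repOK A (t + 1) β O R = true) (hc : ∀ c ∈ dcClaims t t'' cj reps, HoldsG γ c) :
    ∀ g ∈ R.ms.map (fun q => [2 * q.1]), pp A g ∈ stabD φ (wpG γ R.g) := by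
  unfold repOK at hr
  simp only [andB_eq, Bool.and_eq_true] at hr
  intro g hg
  obtain ⟨q, hq, rfl⟩ := List.mem_map.1 hg
  have a1 := allL_spec hr.1 q hq
  simp only [Bool.and_eq_true] at a1
  have hcl := hc ([2 * q.1, 2 * R.g], [2 * R.g, 2 * q.2]) (by
    unfold dcClaims
    rw [List.mem_append]; right
    rw [List.mem_flatMap]
    exact ⟨R, hR, List.mem_append_left _ (List.mem_map.2 ⟨q, hq, rfl⟩)⟩)
  unfold HoldsG at hcl
  simp only [ppG_cons, ppG_nil, mul_one, spG_even] at hcl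
  simp only [pp_cons, pp_nil, mul_one, sp_even]
  refine mem_stabD.2 ⟨wp_mem a1.1, ?_⟩
  rw [hφ.wp a1.1, mul_assoc, hcl, inv_mul_cancel_left, hφ.range]
  exact wpG_mem a1.2

theorem dc_cosetsG {N : ℕ} (hA : okA N A = true) {φ : K A (t + 1) →* Γ}
    (hφ : IsLift A γ (t + 1) φ) {t'' β O : ℕ} {cj : List ℕ} {reps : List Rep}
    (hnext : StabIs A (t + 1) β t'') (h : topShape A t t'' β O cj reps = true)
    (hr : ∀ R ∈ reps, repOK A (t + 1) β O R = true)
    (hc : ∀ c ∈ dcClaims t t'' cj reps, HoldsG γ c) :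
    ∀ x ∈ KG γ t, ∃ k ∈ KG γ (t + 1), ∃ w ∈ reps.map Rep.g,
      (k * wpG γ w)⁻¹ * x ∈ KG γ (t + 1) := by
  have hL := conj_of_cj hφ hnext.1 h hc
  unfold topShape at h
  simp only [andB_eq, Bool.and_eq_true, Nat.ble_eq, Nat.beq_eq, Nat.blt_eq] at h
  obtain ⟨h1, ht, h4, h5, h6, h8⟩ := h
  have h9 : 1 ∈ reps.map Rep.g := by
    rcases nthD_mem_or 0 (reps.map Rep.g) 0 with h | h
    · omega
    · rwa [h6] at h
  have := finite_K hA (t + 1)
  have : Finite (KG γ (t + 1)) := by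
    rw [← hφ.range]; exact Finite.of_surjective _ φ.rangeRestrict_surjective
  intro σ hσ
  obtain ⟨k, hk, _, ⟨w, hw, rfl⟩, e⟩ := schreier_double (K := KG γ (t + 1))
    (T := wpG γ '' {w | w ∈ reps.map Rep.g})
    ((List.finite_toSet _).image _) ⟨1, h9, wpG_one γ⟩ (by
      rintro _ ⟨j, hj, rfl⟩
      by_cases hjt : t + 1 ≤ j
      · exact Or.inl (mem_KG γ hjt)
      have hjt' : j = t := by omega
      subst hjt'
      right
      rintro k hk _ ⟨w, hw, rfl⟩
      rw [← hφ.range] at hk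
      obtain ⟨⟨k, hk⟩, rfl⟩ := hk
      obtain ⟨R, hR, rfl⟩ := List.mem_map.1 hw
      have hR' := hr R hR
      have hM := ms_mem_stabD hφ hR hR' hc
      unfold repOK at hR'
      simp only [andB_eq, Bool.and_eq_true] at hR'
      obtain ⟨r1, r2, r3⟩ := hR'
      have hO := subB_spec r3 (closedB_spec hA h1 h8 (Subgroup.inv_mem _ hk))
      obtain ⟨m, hm, p, hp, e⟩ := reach_orb hA hM _ _ _ hO
      obtain ⟨hm1, hm2⟩ := mem_stabD.1 hm
      obtain ⟨_, hv, hp'⟩ := testBit_orL hp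
      obtain ⟨q, hq, rfl⟩ := List.mem_map.1 hv
      rw [testBit_papp1 hA, testBit_shl_one, pp_cons, pp_nil, mul_one, sp_even] at hp'
      have a2 := allL_spec r2 q hq
      simp only [Bool.and_eq_true] at a2
      have hcl := hc ([gw j, 2 * q.1, 2 * R.g],
          [2 * q.2.1, 2 * nthD 1 (reps.map Rep.g) q.2.2.1, 2 * q.2.2.2]) (by
        unfold dcClaims
        rw [List.mem_append]; right
        rw [List.mem_flatMap]
        exact ⟨R, hR, List.mem_append_right _ (List.mem_map.2 ⟨q, hq, rfl⟩)⟩)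
      unfold HoldsG at hcl
      simp only [ppG_cons, ppG_nil, mul_one, spG_even, spG_gw γ ht] at hcl
      have hl : k * m * (wp A q.1)⁻¹ ∈ K A t'' := by
        apply hnext.2.2
        · exact Subgroup.mul_mem _ (Subgroup.mul_mem _ hk hm1) (Subgroup.inv_mem _ (wp_mem a2.1))
        · rw [Perm.mul_apply, Perm.mul_apply, ← hp']
          simp only [Perm.coe_inv, symm_apply_apply]
          rw [e, hp']; simp
      have hl2 := hφ.image hnext.1 (σ := ⟨k, hk⟩ * ⟨m, hm1⟩ * (⟨_, wp_mem a2.1⟩)⁻¹) hl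
      rw [map_mul, map_mul, map_inv, hφ.wp a2.1] at hl2
      have hl' := mem_conjIn.1 (hL hl2)
      rw [hφ.range] at hm2
      refine ⟨_, Subgroup.mul_mem _ hl' (wpG_mem a2.2.1),
        wpG γ (nthD 1 (reps.map Rep.g) q.2.2.1), ⟨_, ?_, rfl⟩, ?_⟩
      · rcases nthD_mem_or 1 (reps.map Rep.g) q.2.2.1 with h | h
        · rw [h]; exact h9
        · exact h
      · have e2 : wpG γ (nthD 1 (reps.map Rep.g) q.2.2.1) =
            (wpG γ q.2.1)⁻¹ * (γ j * (wpG γ q.1 * wpG γ R.g)) * (wpG γ q.2.2.2)⁻¹ := by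
          rw [hcl]; group
        rw [e2]
        have : (γ j * (φ ⟨k, hk⟩ * φ ⟨m, hm1⟩ * (wpG γ q.1)⁻¹) * (γ j)⁻¹ * wpG γ q.2.1 *
            ((wpG γ q.2.1)⁻¹ * (γ j * (wpG γ q.1 * wpG γ R.g)) * (wpG γ q.2.2.2)⁻¹))⁻¹ *
            (γ j * (φ ⟨k, hk⟩ * wpG γ R.g)) =
            wpG γ q.2.2.2 * ((wpG γ R.g)⁻¹ * φ ⟨m, hm1⟩ * wpG γ R.g)⁻¹ := by group
        rw [this]
        exact Subgroup.mul_mem _ (wpG_mem a2.2.2) (Subgroup.inv_mem _ hm2)) σ hσ
  exact ⟨k, hk, w, hw, e⟩

theorem lift_dc' {N : ℕ} (hA : okA N A = true) {t'' b β O : ℕ} {cj : List ℕ}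
    {reps : List Rep} (hγ : ∀ j, A.length ≤ j → γ j = 1) (hl : Lift A γ (t + 1))
    (hnext : StabIs A (t + 1) β t'') (h : dcShape A t t'' b β O cj reps = true)
    (hr : ∀ R ∈ reps, repOK A (t + 1) β O R = true)
    (hc : ∀ c ∈ dcClaims t t'' cj reps, Holds A c)
    (hc' : ∀ c ∈ dcClaims t t'' cj reps, HoldsG γ c) : Lift A γ t := by
  obtain ⟨φ, hφ⟩ := hl
  unfold dcShape at h
  simp only [andB_eq, Bool.and_eq_true, Nat.ble_eq, Nat.beq_eq] at h
  obtain ⟨h1, h2, h3, h4, h5, h6, h7, h8⟩ := h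
  by_cases htl : ¬ t < A.length
  · exact lift_last fun j hj => hγ j (by omega)
  have hfix : ∀ σ ∈ K A (t + 1), σ b = b := fun σ hσ => stabB_shl.1 (K_le_stabB hA h1 h2 hσ)
  have hcos := dc_cosetsG hA hφ.prod (O := O) (cj := cj) (reps := reps) hnext (by
    unfold topShape
    simp only [andB_eq, Bool.and_eq_true, Nat.ble_eq, Nat.beq_eq, Nat.blt_eq]
    exact ⟨h1, by omega, h4, h5, h6, h8⟩) hr fun c hm => holdsG_prod (hc c hm) (hc' c hm)
  refine lift_of_inj fun x hx hx1 => ?_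
  obtain ⟨k, hk, w, hw, e⟩ := hcos x hx
  rcases mem_head_or_drop hw with h10 | h10
  · rw [h10, h6, wpG_one, mul_one] at e
    exact eq_one_of_lift hφ (by simpa using Subgroup.mul_mem _ hk e) hx1
  · exfalso
    apply moved_of_not_bit hA (allL_spec h7 w h10)
    have h11 := hfix _ (fst_mem_K e)
    rw [Prod.fst_mul, hx1, mul_one, Prod.fst_inv, Perm.inv_eq_iff_eq, Prod.fst_mul, fst_wpG,
      Perm.mul_apply] at h11
    have h12 := hfix _ (fst_mem_K hk)
    exact k.1.injective (by rw [← h11, h12])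

theorem lift_dc {N : ℕ} (hA : okA N A = true) {t'' b β r0 : ℕ} {cj : List ℕ}
    {reps : List Rep} (hγ : ∀ j, A.length ≤ j → γ j = 1) (hl : Lift A γ (t + 1))
    (hnext : StabIs A (t + 1) β t'') (h : dcOK A t t'' b β r0 cj reps = true)
    (hc : ∀ c ∈ dcClaims t t'' cj reps, Holds A c)
    (hc' : ∀ c ∈ dcClaims t t'' cj reps, HoldsG γ c) : Lift A γ t := by
  unfold dcOK at h
  rw [force_eq, andB_eq, Bool.and_eq_true] at h
  exact lift_dc' hA hγ hl hnext h.1 (allL_spec h.2) hc hc'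

/-- more generators, given as words in the old ones -/
theorem lift_gen {t' : ℕ} {l : List (ℕ × ℕ)} (hl : Lift A γ t') (ht : t' ≤ 128)
    (h : ∀ j, t ≤ j → j < t' → ∃ w, (j, w) ∈ l ∧ wge t' w = true)
    (hc : ∀ c ∈ genClaims l, Holds A c) (hc' : ∀ c ∈ genClaims l, HoldsG γ c) : Lift A γ t := by
  obtain ⟨φ, hφ⟩ := hl
  refine lift_of_inj fun x hx hx1 => eq_one_of_lift hφ ((KG_le fun j hj => ?_) hx) hx1
  by_cases hj' : t' ≤ j
  · exact mem_KG _ hj'
  obtain ⟨w, h1, h2⟩ := h j hj (by omega)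
  have hm : ([gw j], [2 * w]) ∈ genClaims l := List.mem_map.2 ⟨_, h1, rfl⟩
  have := holdsG_prod (hc _ hm) (hc' _ hm)
  unfold HoldsG at this
  simp only [ppG_cons, ppG_nil, mul_one, spG_even, spG_gw _ (show j < 128 by omega)] at this
  rw [this]
  exact wpG_mem h2

end Lift

end Cfsg.Agent.Spor
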