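import Cfsg.Agent.Lib.Spor.F4

/-!
Matrices over `F4` given by codes, lists of generators acting on vectors or lines.
-/

set_option autoImplicit false

namespace Cfsg.Agent.Spor

open Cfsg.Agent.PG Equiv Matrix

section General

variable {G Y : Type*} [Group G] [MulAction G Y] {X : ℕ → Y} {B : Set ℕ}

theorem acts_of_K' {A : List Net} {t : ℕ}
    (h : ∀ j, t ≤ j → j < A.length → ∃ g : G, Acts X B g (gp A j)) :
    ∀ σ ∈ K A t, ∃ g : G, Acts X B g σ := by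
  classical
  refine acts_of_K (γ := fun j => if hj : t ≤ j ∧ j < A.length then (h j hj.1 hj.2).choose else 1)
    fun j h1 h2 => ?_
  rw [dif_pos ⟨h1, h2⟩]
  exact (h j h1 h2).choose_spec

theorem acts_of_closure {Q : Subgroup (Perm ℕ)} {S : Set G} (hS : Subgroup.closure S = ⊤)
    (h : ∀ s ∈ S, ∃ σ ∈ Q, Acts X B s σ) : ∀ g : G, ∃ σ ∈ Q, Acts X B g σ := by
  have : Subgroup.closure S ≤ (actsSub X B ⊓ (⊤ : Subgroup G).prod Q).map
      (MonoidHom.fst G (Perm ℕ)) := by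
    rw [Subgroup.closure_le]
    intro s hs
    obtain ⟨σ, h1, h2⟩ := h s hs
    exact ⟨(s, σ), ⟨h2, trivial, h1⟩, rfl⟩
  intro g
  obtain ⟨⟨_, σ⟩, ⟨h1, _, h2⟩, rfl⟩ := this (hS.symm ▸ Subgroup.mem_top g)
  exact ⟨σ, h2, h1⟩

theorem iso_of_acts' {Q : Subgroup (Perm ℕ)} (h : ∀ σ ∈ Q, ∃ g : G, Acts X B g σ)
    (h' : ∀ g : G, ∃ σ ∈ Q, Acts X B g σ) (hX : Set.InjOn X B) (hf : FixTriv Q B)
    (hf' : ∀ g : G, (∀ i ∈ B, g • X i = X i) → g = 1) : Nonempty (G ≃* Q) := by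
  obtain ⟨e⟩ := quot_iso_of_acts h h' hX ⊥
    (fun g => ⟨fun hg i _ => by rw [Subgroup.mem_bot.1 hg, one_smul], hf' g⟩) ⊥
    (fun σ => ⟨fun hg i _ => by rw [Subgroup.mem_bot.1 hg]; rfl,
      fun hσ => Subtype.ext (hf _ σ.2 hσ)⟩)
  exact ⟨(QuotientGroup.quotientBot.symm.trans e).trans QuotientGroup.quotientBot⟩

theorem iso_of_acts [Finite G] {Q : Subgroup (Perm ℕ)} [Finite Q]
    (h : ∀ σ ∈ Q, ∃ g : G, Acts X B g σ) (hX : Set.InjOn X B) (hf : FixTriv Q B)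
    (hf' : ∀ g : G, (∀ i ∈ B, g • X i = X i) → g = 1) (hc : Nat.card G ≤ Nat.card Q) :
    Nonempty (G ≃* Q) :=
  iso_of_acts' h (acts_surj h hX ⊥ (fun g hg i _ => by rw [Subgroup.mem_bot.1 hg, one_smul]) ⊥
    (fun σ h1 h2 => Subgroup.mem_bot.2 (hf σ h1 h2)) (by simpa using hc)) hX hf hf'

/-- the kernel of the action on the objects -/
def kerX (G : Type*) {Y : Type*} [Group G] [MulAction G Y] (X : ℕ → Y) (B : Set ℕ) :
    Subgroup G where
  carrier := {g | ∀ i ∈ B, g • X i = X i}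
  one_mem' := fun _ _ => one_smul _ _
  mul_mem' := fun {a b} ha hb i hi => by rw [mul_smul, hb i hi, ha i hi]
  inv_mem' := fun {a} ha i hi => by rw [inv_smul_eq_iff, ha i hi]

theorem kerX_normal {Q : Subgroup (Perm ℕ)} (h' : ∀ g : G, ∃ σ ∈ Q, Acts X B g σ) :
    (kerX G X B).Normal := ⟨fun n hn g i hi => by
  obtain ⟨σ, -, e⟩ := h' g
  rw [mul_smul, mul_smul, e.inv.2 i hi, hn _ ((e.inv.1 i).2 hi), ← e.inv.2 i hi, smul_inv_smul]⟩

/-- the quotient by the centre, when the kernel of the action is known by counting -/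
theorem quot_center_iso [Finite G] {Q : Subgroup (Perm ℕ)} [Finite Q]
    (h : ∀ σ ∈ Q, ∃ g : G, Acts X B g σ) (hX : Set.InjOn X B) {b : ℕ} (hb : b ∈ B)
    (htr : ∀ i ∈ B, ∃ σ ∈ Q, σ b = i)
    (hself : ∀ i ∈ B, i ≠ b → ∃ σ ∈ Q, σ b = b ∧ σ i ≠ i)
    (N1 : Subgroup G) (hN1 : N1 ≤ Subgroup.center G) (hN1' : ∀ g ∈ N1, ∀ i ∈ B, g • X i = X i)
    (N2 : Subgroup (Perm ℕ)) (hN2 : N2 ≤ Q) (hN2' : ∀ σ ∈ N2, ∀ τ ∈ Q, τ * σ = σ * τ)
    (hN2'' : ∀ σ ∈ Q, (∀ i ∈ B, σ i = i) → σ ∈ N2)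
    (hcard : Nat.card G * Nat.card N2 ≤ Nat.card N1 * Nat.card Q) :
    Subgroup.center G = N1 ∧ Subgroup.center Q = N2.subgroupOf Q ∧
      Nonempty (G ⧸ Subgroup.center G ≃* Q ⧸ Subgroup.center Q) := by
  have : Finite N2 := finite_of_le hN2
  have h' := acts_surj h hX N1 hN1' N2 hN2'' hcard
  have hB : ∀ σ ∈ Q, ∀ i, σ i ∈ B ↔ i ∈ B := fun σ hσ => (h σ hσ).choose_spec.1
  have c1 := center_fixes h h' hX hb htr hself
  have c2 := center_fixes_self hB hb htr hself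
  have z2 : ∀ σ : Q, σ ∈ Subgroup.center Q ↔ ∀ i ∈ B, (σ : Perm ℕ) i = i := fun σ =>
    ⟨c2 σ, fun hσ => Subgroup.mem_center_iff.2 fun τ =>
      Subtype.ext (hN2' _ (hN2'' _ σ.2 hσ) _ τ.2)⟩
  have e2 : Subgroup.center Q = N2.subgroupOf Q := by
    ext σ
    rw [Subgroup.mem_subgroupOf]
    exact ⟨fun hσ => hN2'' _ σ.2 (c2 σ hσ),
      fun hσ => Subgroup.mem_center_iff.2 fun τ => Subtype.ext (hN2' _ hσ _ τ.2)⟩
  have := kerX_normal h'
  obtain ⟨e⟩ := quot_iso_of_acts h h' hX (kerX G X B) (fun _ => Iff.rfl) _ z2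
  have k1 : Nat.card (kerX G X B) ≤ Nat.card N1 := by
    have a1 := Subgroup.card_eq_card_quotient_mul_card_subgroup (kerX G X B)
    have a2 := Subgroup.card_eq_card_quotient_mul_card_subgroup (Subgroup.center Q)
    rw [← Nat.card_congr e.toEquiv, e2,
      Nat.card_congr (Subgroup.subgroupOfEquivOfLe hN2).toEquiv] at a2
    rw [a1, a2] at hcard
    have p1 : 0 < Nat.card (G ⧸ kerX G X B) * Nat.card N2 := Nat.mul_pos Nat.card_pos Nat.card_pos
    apply Nat.le_of_mul_le_mul_right _ p1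
    calc _ = Nat.card (G ⧸ kerX G X B) * Nat.card (kerX G X B) * Nat.card N2 := by ring
      _ ≤ _ := hcard
  have k2 : N1 = kerX G X B := Subgroup.eq_of_le_of_card_ge hN1' k1
  have e1 : Subgroup.center G = kerX G X B := le_antisymm c1 (k2 ▸ hN1)
  exact ⟨e1.trans k2.symm, e2, ⟨(QuotientGroup.quotientMulEquivOfEq e1).trans e⟩⟩

end General

section Codes

variable {ι : Type} [Fintype ι] [DecidableEq ι] {G : Type*} [Group G]

/-- the matrix with code `c` -/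
def mxc (idx : ι → ℕ) (n c : ℕ) : Matrix ι ι F4 :=
  Matrix.of fun r s => F4.mk (c.testBit (2 * (idx r * n + idx s)))
    (c.testBit (2 * (idx r * n + idx s) + 1))

/-- the planes number `2k` and `2k+1` of a list -/
noncomputable def bpAt (S : List ℕ) (k : ℕ) : BP := ⟨nthD 0 S (2 * k), nthD 0 S (2 * k + 1)⟩

theorem acts_line_list {ρ : G →* Matrix ι ι F4} {l : List ι} (hl : Enum l) {W : ι → BP} {N : ℕ}
    {A : List Net} (hA : okA N A = true) (hlen : A.length ≤ 128) {t m : ℕ}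
    {M : ℕ → Matrix ι ι F4} {C : ℕ → BP} (hnz : nzB l W m = true)
    (hm : invB A (kgens A t) m = true) (hM : ∀ j, t ≤ j → j < A.length → ∃ g, ρ g = M j)
    (h : ∀ j ∈ List.range' t (A.length - t), linB l (M j) W (C j) (papp1 A [gw j]) m = true) :
    ∀ σ ∈ K A t, ∃ g : G, Acts (fun i => line ρ (vecAt W i)) (bset m) g σ :=
  acts_of_K' fun j h1 h2 => by
    obtain ⟨g, hg⟩ := hM j h1 h2
    exact ⟨g, acts_line hl hA (by omega) hnz (K_le_stabB hA hlen hm (gp_mem_K A h1))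
      (hg ▸ h j (by rw [List.mem_range'_1]; omega))⟩

theorem acts_vec_list {ρ : G →* Matrix ι ι F4} {l : List ι} (hl : Enum l) {W : ι → BP} {N : ℕ}
    {A : List Net} (hA : okA N A = true) (hlen : A.length ≤ 128) {t m : ℕ}
    {M : ℕ → Matrix ι ι F4}
    (hm : invB A (kgens A t) m = true) (hM : ∀ j, t ≤ j → j < A.length → ∃ g, ρ g = M j)
    (h : ∀ j ∈ List.range' t (A.length - t), linB l (M j) W ⟨m, 0⟩ (papp1 A [gw j]) m = true) :
    ∀ σ ∈ K A t, ∃ g : G, Acts (fun i => (show Vc ρ from vecAt W i)) (bset m) g σ :=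
  acts_of_K' fun j h1 h2 => by
    obtain ⟨g, hg⟩ := hM j h1 h2
    exact ⟨g, acts_vec hl hA (by omega) (K_le_stabB hA hlen hm (gp_mem_K A h1))
      (hg ▸ h j (by rw [List.mem_range'_1]; omega))⟩

theorem F4.mk_inj {a b c d : Bool} (h : F4.mk a b = F4.mk c d) : a = c ∧ b = d := by
  revert a b c d; decide

omit [Fintype ι] [DecidableEq ι] in
theorem vecAt_injOn {l : List ι} {W : ι → BP} {lo hi : ℕ}
    (h : sortedB (l.flatMap fun r => [(W r).p0, (W r).p1]) lo hi = true) :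
    Set.InjOn (vecAt W) (bset (ivl lo hi)) := by
  intro i h1 j h2 e
  apply sortedB_inj h h1 h2
  apply colVal_congr
  intro P hP
  obtain ⟨r, -, hr⟩ := List.mem_flatMap.1 hP
  have := F4.mk_inj (congrFun e r)
  simp only [List.mem_cons, List.not_mem_nil, or_false] at hr
  rcases hr with rfl | rfl
  · exact this.1
  · exact this.2

theorem eq_one_of_fix_basis {ρ : G →* Matrix ι ι F4} (hρ : Function.Injective ρ) {W : ι → BP}
    {m : ℕ} (pos : ι → ℕ)
    (h : ∀ s, m.testBit (pos s) = true ∧ ∀ r, vecAt W (pos s) r = if r = s then 1 else 0) (g : G)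
    (hg : ∀ i ∈ bset m, g • (show Vc ρ from vecAt W i) = (show Vc ρ from vecAt W i)) : g = 1 := by
  apply hρ
  rw [map_one]
  ext r s
  have h1 : ρ g *ᵥ vecAt W (pos s) = vecAt W (pos s) := hg _ (h s).1
  have h2 : vecAt W (pos s) = Pi.single s 1 := by
    ext r; rw [(h s).2 r, Pi.single_apply]
  rw [h2, mulVec_single_one] at h1
  have := congrFun h1 r
  rw [Pi.single_apply] at this
  rw [Matrix.one_apply, ← this]; rfl

theorem line_ne_of {ρ : G →* Matrix ι ι F4} {x y : ι → F4} (h : ∀ c : F4, c • y ≠ x) :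
    line ρ x ≠ line ρ y := fun e => by
  obtain ⟨c, hc⟩ := exists_smul_of_line_eq e
  exact h c hc

end Codes

end Cfsg.Agent.Spor
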