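import Cfsg.Agent.Lib.Spor.Lift

/-!
Numbers packed as digits of one natural number; evaluation of words by a state machine.
-/

set_option autoImplicit false

namespace Cfsg.Agent.Spor

open Cfsg.Agent.PG Finset

/-- the number with digits `f 0, …, f (N-1)` of width `w` -/
def pk (w N : ℕ) (f : ℕ → ℕ) : ℕ := ∑ i ∈ range N, f i * 2 ^ (w * i)

theorem pk_succ (w N : ℕ) (f : ℕ → ℕ) : pk w (N + 1) f = 2 ^ (w * N) * f N + pk w N f := by
  unfold pk; rw [sum_range_succ]; ring

theorem pk_congr {w N : ℕ} {f g : ℕ → ℕ} (h : ∀ i < N, f i = g i) : pk w N f = pk w N g :=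
  sum_congr rfl fun i hi => by rw [h i (mem_range.1 hi)]

theorem pk_lt {w N : ℕ} {f : ℕ → ℕ} (h : ∀ i < N, f i < 2 ^ w) : pk w N f < 2 ^ (w * N) := by
  induction N with
  | zero => simp [pk]
  | succ N ih =>
    have h1 := ih fun i hi => h i (by omega)
    have h2 : f N + 1 ≤ 2 ^ w := h N (by omega)
    rw [pk_succ, Nat.mul_succ, pow_add]
    calc _ < 2 ^ (w * N) * f N + 2 ^ (w * N) := by omega
      _ = 2 ^ (w * N) * (f N + 1) := by ring
      _ ≤ _ := Nat.mul_le_mul_left _ h2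

theorem testBit_pk {w N : ℕ} {f : ℕ → ℕ} (h : ∀ i < N, f i < 2 ^ w) (i : ℕ) {t : ℕ} (ht : t < w) :
    (pk w N f).testBit (w * i + t) = (decide (i < N) && (f i).testBit t) := by
  induction N with
  | zero => simp [pk]
  | succ N ih =>
    have h1 : ∀ i < N, f i < 2 ^ w := fun i hi => h i (by omega)
    rw [pk_succ, Nat.testBit_two_pow_mul_add _ (pk_lt h1)]
    rcases lt_trichotomy i N with h2 | rfl | h2
    · have : w * (i + 1) ≤ w * N := Nat.mul_le_mul_left _ h2
      rw [if_pos (by rw [Nat.mul_succ] at this; omega), ih h1]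
      simp [h2, h2.le]
    · rw [if_neg (by omega)]; simp
    · have : w * (N + 1) ≤ w * i := Nat.mul_le_mul_left _ h2
      rw [Nat.mul_succ] at this
      rw [if_neg (by omega), Nat.testBit_lt_two_pow
        (lt_of_lt_of_le (h N (by omega)) (Nat.pow_le_pow_right (by norm_num) (by omega)))]
      simp; omega

theorem shr_land_pk {w N : ℕ} (hw : 0 < w) {g : ℕ → ℕ} (h : ∀ i < N, g i < 2 ^ w) (X k : ℕ) :
    (X >>> k) &&& pk w N g = pk w N fun i => (X >>> (k + w * i)) &&& g i := by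
  apply Nat.eq_of_testBit_eq
  intro j
  rw [← Nat.div_add_mod j w, Nat.testBit_and, testBit_pk h _ (Nat.mod_lt _ hw),
    testBit_pk (fun i hi => lt_of_le_of_lt Nat.and_le_right (h i hi)) _ (Nat.mod_lt _ hw),
    Nat.testBit_and, Nat.testBit_shiftRight, Nat.testBit_shiftRight, add_assoc]
  cases decide (j / w < N) <;> simp

theorem dig_pk {w N : ℕ} {f : ℕ → ℕ} (h : ∀ i < N, f i < 2 ^ w) {i k g : ℕ} (hi : i < N)
    (hg : g < 2 ^ (w - k)) : (pk w N f >>> (k + w * i)) &&& g = (f i >>> k) &&& g := by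
  apply Nat.eq_of_testBit_eq
  intro t
  rw [Nat.testBit_and, Nat.testBit_and, Nat.testBit_shiftRight, Nat.testBit_shiftRight]
  by_cases ht : t < w - k
  · rw [show k + w * i + t = w * i + (k + t) by omega, testBit_pk h _ (by omega)]
    simp [hi]
  · rw [Nat.testBit_lt_two_pow
      (lt_of_lt_of_le hg (Nat.pow_le_pow_right (by norm_num) (by omega)) : g < 2 ^ t)]
    simp

theorem dig_pk0 {w N : ℕ} {f : ℕ → ℕ} (h : ∀ i < N, f i < 2 ^ w) {i : ℕ} (hi : i < N) :
    (pk w N f >>> (w * i)) &&& (2 ^ w - 1) = f i := by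
  have := dig_pk h (k := 0) (g := 2 ^ w - 1) hi (by simp)
  rw [zero_add] at this
  rw [this, Nat.shiftRight_zero, Nat.and_two_pow_sub_one_eq_mod, Nat.mod_eq_of_lt (h i hi)]

theorem pk_inj {w N : ℕ} {f g : ℕ → ℕ} (hf : ∀ i < N, f i < 2 ^ w) (hg : ∀ i < N, g i < 2 ^ w)
    (h : pk w N f = pk w N g) : ∀ i < N, f i = g i := fun i hi => by
  rw [← dig_pk0 hf hi, h, dig_pk0 hg hi]

theorem pk_add (w N : ℕ) (f g : ℕ → ℕ) : pk w N f + pk w N g = pk w N fun i => f i + g i := by
  unfold pk; rw [← sum_add_distrib]; exact sum_congr rfl fun i _ => by ring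

theorem mul_pk (w N a : ℕ) (f : ℕ → ℕ) : a * pk w N f = pk w N fun i => a * f i := by
  unfold pk; rw [mul_sum]; exact sum_congr rfl fun i _ => by ring

theorem pk_zero (w N : ℕ) : pk w N (fun _ => 0) = 0 := by simp [pk]

theorem pk_flat (w m n : ℕ) (f : ℕ → ℕ) :
    pk w (m * n) f = pk (w * n) m fun r => pk w n fun s => f (r * n + s) := by
  induction m with
  | zero => simp [pk]
  | succ m ih =>
    rw [pk_succ, ← ih, Nat.succ_mul]
    unfold pk
    rw [sum_range_add, add_comm, mul_sum]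
    congr 1
    exact sum_congr rfl fun i _ => by ring

theorem pk_mul_pk (w m n : ℕ) (a b : ℕ → ℕ) :
    pk (w * n) m a * pk w n b = pk w (m * n) fun i => a (i / n) * b (i % n) := by
  rw [pk_flat, mul_comm, mul_pk]
  refine pk_congr fun r _ => ?_
  rw [mul_comm, mul_pk]
  refine pk_congr fun s hs => ?_
  have h1 : (r * n + s) / n = r := by
    rw [add_comm, Nat.add_mul_div_right _ _ (by omega), Nat.div_eq_of_lt hs, zero_add]
  have h2 : (r * n + s) % n = s := by
    rw [add_comm, Nat.add_mul_mod_self_right, Nat.mod_eq_of_lt hs]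
  simp only [h1, h2]

/-- all digits one -/
def ones (w N : ℕ) : ℕ :=
  Nat.div (Nat.pred (Nat.shiftLeft 1 (Nat.mul w N))) (Nat.pred (Nat.shiftLeft 1 w))

theorem ones_eq {w : ℕ} (hw : 0 < w) (N : ℕ) : ones w N = pk w N fun _ => 1 := by
  have h : 2 ≤ 2 ^ w := by
    calc 2 = 2 ^ 1 := rfl
      _ ≤ _ := Nat.pow_le_pow_right (by norm_num) hw
  have e := Nat.geomSum_eq h N
  unfold pk
  simp only [one_mul, pow_mul]
  rw [e, ← pow_mul]
  show (1 <<< (w * N) - 1) / (1 <<< w - 1) = _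
  rw [Nat.one_shiftLeft, Nat.one_shiftLeft]

/-- the number `2 ^ k - 1` -/
def msk (k : ℕ) : ℕ := Nat.pred (Nat.shiftLeft 1 k)

theorem msk_eq (k : ℕ) : msk k = 2 ^ k - 1 := by
  show 1 <<< k - 1 = _
  rw [Nat.one_shiftLeft]

theorem msk_lt {k w : ℕ} (h : k ≤ w) : msk k < 2 ^ w := by
  have h1 : 2 ^ k ≤ 2 ^ w := Nat.pow_le_pow_right (by norm_num) h
  have h2 : 0 < 2 ^ k := by positivity
  rw [msk_eq]; omega

theorem msk_mul_ones {w : ℕ} (hw : 0 < w) (N k : ℕ) :
    msk k * ones w N = pk w N fun _ => msk k := by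
  rw [ones_eq hw, mul_pk]; simp

section Machine

variable {Γ S : Type*} [Group Γ]

/-- run a word, with fuel -/
noncomputable def wevF (ap : ℕ → ℕ → ℕ) (f : ℕ) : ℕ → ℕ → ℕ :=
  Nat.rec (motive := fun _ => ℕ → ℕ → ℕ) (fun _ v => v)
    (fun _ ih w v => iteB (Nat.ble w 1) v
      (force (Nat.mod w 256) fun c => force (ap c v) (ih (Nat.div w 256)))) f

/-- run the inverse of a word, with fuel -/
noncomputable def wevI (ap : ℕ → ℕ → ℕ) (f : ℕ) : ℕ → ℕ → ℕ :=
  Nat.rec (motive := fun _ => ℕ → ℕ → ℕ) (fun _ v => v)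
    (fun _ ih w v => iteB (Nat.ble w 1) v
      (force (ih (Nat.div w 256) v) fun v' =>
        force (Nat.xor (Nat.mod w 256) 1) fun c => ap c v')) f

/-- run a signed word -/
noncomputable def sev (ap : ℕ → ℕ → ℕ) (s v : ℕ) : ℕ :=
  force (Nat.div s 2) fun w => iteB (Nat.beq (Nat.mod s 2) 1) (wevI ap w w v) (wevF ap w w v)

/-- run a product of signed words -/
noncomputable def pev (ap : ℕ → ℕ → ℕ) (l : List ℕ) : ℕ → ℕ :=
  List.rec (motive := fun _ => ℕ → ℕ) (fun v => v) (fun s _ ih v => force (sev ap s v) ih) l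

theorem lpG_xor_one (γ : ℕ → Γ) (c : ℕ) : lpG γ (c ^^^ 1) = (lpG γ c)⁻¹ := by
  have h1 : (c ^^^ 1) / 2 = c / 2 := by
    rw [Nat.xor_div_two]; simp
  have h2 : (c ^^^ 1) % 2 = 1 ↔ ¬ c % 2 = 1 := by
    rw [Nat.xor_mod_two_eq_one]; simp
  unfold lpG
  rw [h1]
  by_cases hc : c % 2 = 1
  · rw [if_neg (by rw [h2]; simpa using hc), if_pos hc, inv_inv]
  · rw [if_pos (h2.2 hc), if_neg hc]

variable {γ : ℕ → Γ} {ap : ℕ → ℕ → ℕ} {R : ℕ → Γ → Prop}

theorem wevF_spec (h : ∀ c X g, R X g → R (ap c X) (g * lpG γ c)) (f w : ℕ) {X : ℕ} {g : Γ}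
    (hX : R X g) : R (wevF ap f w X) (g * wpFG γ f w) := by
  induction f generalizing w X g with
  | zero => exact (mul_one g).symm ▸ hX
  | succ f ih =>
    show R (iteB (Nat.ble w 1) X (force (Nat.mod w 256) fun c => force (ap c X)
      (wevF ap f (Nat.div w 256))))
      (g * if w ≤ 1 then 1 else lpG γ (w % 256) * wpFG γ f (w / 256))
    by_cases hw : w ≤ 1
    · rw [Nat.ble_eq_true_of_le hw, if_pos hw, mul_one]; exact hX
    · have : Nat.ble w 1 = false := by rw [← Bool.not_eq_true, Nat.ble_eq]; exact hw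
      rw [this, iteB_false, force_eq, force_eq, if_neg hw, ← mul_assoc]
      exact ih _ (h _ _ _ hX)

theorem wevI_spec (h : ∀ c X g, R X g → R (ap c X) (g * lpG γ c)) (f w : ℕ) {X : ℕ} {g : Γ}
    (hX : R X g) : R (wevI ap f w X) (g * (wpFG γ f w)⁻¹) := by
  induction f generalizing w X g with
  | zero =>
    show R X (g * 1⁻¹)
    rw [inv_one, mul_one]; exact hX
  | succ f ih =>
    show R (iteB (Nat.ble w 1) X (force (wevI ap f (Nat.div w 256) X) fun v' =>
        force (Nat.xor (Nat.mod w 256) 1) fun c => ap c v'))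
      (g * (if w ≤ 1 then 1 else lpG γ (w % 256) * wpFG γ f (w / 256))⁻¹)
    by_cases hw : w ≤ 1
    · rw [Nat.ble_eq_true_of_le hw, if_pos hw, inv_one, mul_one]; exact hX
    · have : Nat.ble w 1 = false := by rw [← Bool.not_eq_true, Nat.ble_eq]; exact hw
      rw [this, iteB_false, force_eq, force_eq, if_neg hw, mul_inv_rev, ← mul_assoc,
        ← lpG_xor_one]
      exact h _ _ _ (ih _ hX)

theorem pev_spec (h : ∀ c X g, R X g → R (ap c X) (g * lpG γ c)) (l : List ℕ) {X : ℕ} {g : Γ}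
    (hX : R X g) : R (pev ap l X) (g * ppG γ l) := by
  induction l generalizing X g with
  | nil => exact (mul_one g).symm ▸ hX
  | cons s l ih =>
    show R (force (sev ap s X) (pev ap l)) _
    rw [force_eq, ppG_cons, ← mul_assoc]
    apply ih
    unfold sev spG
    rw [force_eq]
    by_cases hc : s % 2 = 1
    · have : Nat.beq (Nat.mod s 2) 1 = true := by rw [Nat.beq_eq]; exact hc
      rw [this, if_pos hc]; exact wevI_spec h _ _ hX
    · have : Nat.beq (Nat.mod s 2) 1 = false := by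
        rw [← Bool.not_eq_true, Nat.beq_eq]; exact hc
      rw [this, if_neg hc]; exact wevF_spec h _ _ hX

end Machine

end Cfsg.Agent.Spor
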