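import Cfsg.Agent.Lib.Spor.Mat4
import Cfsg.Agent.Lib.GL.HermBasis

/-!
Special unitary groups over `F4`: membership tests, order, scalars.
-/

set_option autoImplicit false

namespace Cfsg.Agent.Spor

open Cfsg.Agent.PG Equiv Matrix

theorem det_eq_of_LU {R : Type*} [CommRing R] {n : ℕ} {M L L' U : Matrix (Fin n) (Fin n) R}
    (h : M * L' = L * U) (hL : ∀ i j, i < j → L i j = 0) (hL1 : ∀ i, L i i = 1)
    (hL' : ∀ i j, i < j → L' i j = 0) (hL1' : ∀ i, L' i i = 1) (hU : ∀ i j, j < i → U i j = 0) :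
    M.det = ∏ i, U i i := by
  have h1 := congrArg det h
  rw [det_mul, det_mul, det_of_isLowerTriangular L (fun i j hij => hL i j hij),
    det_of_isLowerTriangular L' (fun i j hij => hL' i j hij),
    det_of_isUpperTriangular (M := U) (fun i j hij => hU i j hij)] at h1
  simpa [hL1, hL1'] using h1

/-- the field automorphism of `F4` -/
def F4.frob : F4 →+* F4 where
  toFun := F4.inv
  map_one' := rfl
  map_zero' := rfl
  map_mul' := by decide
  map_add' := by decide

theorem F4.frob_eq (a : F4) : F4.frob a = a ^ 2 := by revert a; decide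

/-- the natural representation of the special unitary group -/
def suRep (n : ℕ) (F : Type*) [Field F] (q : ℕ) : Cfsg.SU n F q →* Matrix (Fin n) (Fin n) F :=
  (Cfsg.slToMat n F).comp (Cfsg.SU n F q).subtype

theorem suRep_injective (n : ℕ) (F : Type*) [Field F] (q : ℕ) :
    Function.Injective (suRep n F q) := fun _ _ e => Subtype.ext (Subtype.ext e)

theorem exists_su {n : ℕ} {M : Matrix (Fin n) (Fin n) F4} (h1 : M.det = 1)
    (h2 : Mᵀ * M.map F4.frob = 1) : ∃ g, suRep n F4 2 g = M := by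
  refine ⟨⟨⟨M, h1⟩, fun u v => ?_⟩, rfl⟩
  have := (Lib.GL.Herm.mem_GU_iff' F4.frob_eq
    (SpecialLinearGroup.toGL (⟨M, h1⟩ : SpecialLinearGroup (Fin n) F4))).2 h2
  exact this u v

/-- test for membership in the special unitary group, with codes `(M, L', L, U)` -/
def SuOK (n : ℕ) (c : ℕ × ℕ × ℕ × ℕ) : Prop :=
  (mxc Fin.val n c.1 : Matrix (Fin n) (Fin n) F4)ᵀ * (mxc Fin.val n c.1).map F4.frob = 1 ∧
  (mxc Fin.val n c.1 : Matrix (Fin n) (Fin n) F4) * mxc Fin.val n c.2.1 =
    mxc Fin.val n c.2.2.1 * mxc Fin.val n c.2.2.2 ∧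
  (∀ i j : Fin n, i < j → mxc Fin.val n c.2.2.1 i j = 0 ∧ mxc Fin.val n c.2.1 i j = 0 ∧
    mxc Fin.val n c.2.2.2 j i = 0) ∧
  (∀ i : Fin n, mxc Fin.val n c.2.2.1 i i = 1 ∧ mxc Fin.val n c.2.1 i i = 1) ∧
  ∏ i : Fin n, mxc Fin.val n c.2.2.2 i i = 1

instance instDecidableSuOK (n : ℕ) (c : ℕ × ℕ × ℕ × ℕ) : Decidable (SuOK n c) := by
  unfold SuOK
  refine @instDecidableAnd _ _ inferInstance (@instDecidableAnd _ _ inferInstance
    (@instDecidableAnd _ _ ?_ (@instDecidableAnd _ _ inferInstance inferInstance)))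
  exact @Fintype.decidableForallFintype _ _
    (fun _ => @Fintype.decidableForallFintype _ _ (fun _ => inferInstance) _) _

theorem SuOK.exists {n : ℕ} {c : ℕ × ℕ × ℕ × ℕ} (h : SuOK n c) :
    ∃ g, suRep n F4 2 g = mxc Fin.val n c.1 :=
  exists_su (by
    rw [det_eq_of_LU h.2.1 (fun i j hij => (h.2.2.1 i j hij).1) (fun i => (h.2.2.2.1 i).1)
      (fun i j hij => (h.2.2.1 i j hij).2.1) (fun i => (h.2.2.2.1 i).2)
      (fun i j hij => (h.2.2.1 j i hij).2.2), h.2.2.2.2]) h.1

theorem card_SU_F4 (n : ℕ) (hn : 0 < n) :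
    Nat.card (Cfsg.SU n F4 2) * 3 = Nat.card (Cfsg.GU n F4 2) := by
  let f : Cfsg.GU n F4 2 →* F4ˣ := GeneralLinearGroup.det.comp (Cfsg.GU n F4 2).subtype
  have hs : Function.Surjective f := by
    intro u
    let d : Fin n → F4 := Function.update 1 ⟨0, hn⟩ u
    have hd : (diagonal d).det = u := by
      rw [det_diagonal, Finset.prod_update_of_mem (Finset.mem_univ _)]; simp
    refine ⟨⟨GeneralLinearGroup.mkOfDetNeZero (diagonal d) (by rw [hd]; exact u.ne_zero),
      (Lib.GL.Herm.mem_GU_iff' F4.frob_eq _).2 ?_⟩, Units.ext hd⟩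
    show (diagonal d)ᵀ * (diagonal d).map F4.frob = 1
    rw [diagonal_transpose, diagonal_map (map_zero _), diagonal_mul_diagonal, ← diagonal_one]
    congr 1
    ext i
    have h1 : ∀ a : F4, a ≠ 0 → a * F4.frob a = 1 := by decide
    apply h1
    by_cases hi : i = ⟨0, hn⟩
    · subst hi; simp [d]
    · simp [d, Function.update_of_ne hi]
  have c1 := Subgroup.card_eq_card_quotient_mul_card_subgroup f.ker
  rw [Nat.card_congr (QuotientGroup.quotientKerEquivOfSurjective f hs).toEquiv, Nat.card_units,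
    Nat.card_eq_fintype_card (α := F4), F4.card_eq] at c1
  rw [c1, mul_comm]
  congr 1
  refine Nat.card_congr
    { toFun := fun g => ⟨⟨SpecialLinearGroup.toGL g.1, g.2⟩, Units.ext g.1.2⟩
      invFun := fun g => ⟨⟨g.1.1.1, congrArg Units.val g.2⟩, g.1.2⟩
      left_inv := fun g => rfl
      right_inv := fun g => Subtype.ext (Subtype.ext (Units.ext rfl)) }

theorem finite_SU_F4 (n : ℕ) : Finite (Cfsg.SU n F4 2) :=
  Finite.of_injective _ (suRep_injective n F4 2)

section Scalars

variable {ι : Type} [Fintype ι] [DecidableEq ι] [Nonempty ι] {G : Type*} [Group G]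
  {ρ : G →* Matrix ι ι F4}

omit [Nonempty ι] in
theorem scalar_central (hρ : Function.Injective ρ) {z : G} {c : F4} (hz : ρ z = c • 1) :
    Subgroup.zpowers z ≤ Subgroup.center G := by
  rw [Subgroup.zpowers_le, Subgroup.mem_center_iff]
  intro g
  apply hρ
  rw [map_mul, map_mul, hz]; simp

theorem card_scalar (hρ : Function.Injective ρ) {z : G} (hz : ρ z = F4.w • 1) :
    Nat.card (Subgroup.zpowers z) = 3 := by
  have : Fact (Nat.Prime 3) := ⟨Nat.prime_three⟩
  rw [Nat.card_zpowers]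
  refine orderOf_eq_prime (hρ ?_) fun e => ?_
  · have : F4.w ^ 3 = 1 := by decide
    rw [map_pow, hz, smul_pow, this, map_one]; simp
  · rw [e, map_one] at hz
    have := congrFun (congrFun hz (Classical.arbitrary ι)) (Classical.arbitrary ι)
    simp only [one_apply_eq, Matrix.smul_apply, smul_eq_mul, mul_one] at this
    exact absurd this (by decide)

omit [Nonempty ι] in
theorem scalar_fixes {z : G} {c : F4} (hc : c ≠ 0) (hz : ρ z = c • 1) (x : ι → F4) :
    ∀ g ∈ Subgroup.zpowers z, g • line ρ x = line ρ x := by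
  have : Subgroup.zpowers z ≤ MulAction.stabilizer G (line ρ x) := by
    rw [Subgroup.zpowers_le, MulAction.mem_stabilizer_iff, smul_line, hz, smul_mulVec, one_mulVec,
      line_smul ρ hc]
  exact fun g hg => this hg

end Scalars

/-- the subgroup of `K A t` fixing the listed base points -/
theorem fix_chain_step {A : List Net} {t b t' : ℕ} (hs : StabIs A t b t') {B : Set ℕ} (hb : b ∈ B)
    {N : Subgroup (Perm ℕ)} (h : ∀ σ ∈ K A t', (∀ i ∈ B, σ i = i) → σ ∈ N) :
    ∀ σ ∈ K A t, (∀ i ∈ B, σ i = i) → σ ∈ N :=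
  fun σ hσ hf => h σ (hs.2.2 σ hσ (hf b hb)) hf

/-- the last network is central -/
theorem last_central {A : List Net} (hl : A.length ≤ 128) {t t' : ℕ} (ht : t' + 1 = A.length)
    (h : ∀ c ∈ commClaims [gw t'] t A.length, Holds A c) :
    ∀ σ ∈ K A t', ∀ τ ∈ K A t, τ * σ = σ * τ := by
  have h1 := comm_of_claims hl h
  rw [pp_cons, pp_nil, mul_one, sp_gw A (by omega)] at h1
  intro σ hσ τ hτ
  have : K A t' ≤ Subgroup.centralizer {τ} := K_le fun j h2 h3 => by
    obtain rfl : j = t' := by omega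
    exact Subgroup.mem_centralizer_singleton_iff.2 (h1 τ hτ).symm
  exact (Subgroup.mem_centralizer_singleton_iff.1 (this hσ)).symm

/-- non-split double cover from a claim `x x y y = d` -/
theorem nonsplit_K {A : List Net} {t t' : ℕ} {H : Type*} [Group H] (hle : t ≤ t')
    (hZ : Subgroup.center (K A t) = (K A t').subgroupOf (K A t)) (hc : Nat.card (K A t') = 2)
    (e : K A t ⧸ Subgroup.center (K A t) ≃* H) {x y d : List ℕ} (hx : pge t x = true)
    (hy : pge t y = true) (hd : pge t' d = true) (hd1 : pp A d ≠ 1)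
    (h : ∀ c ∈ [(x ++ x ++ (y ++ y), d)], Holds A c) : Cfsg.IsNonsplitDoubleCover (K A t) H := by
  have h1 := h _ List.mem_cons_self
  unfold Holds at h1
  simp only [pp_append] at h1
  refine nonsplit_of (x := ⟨_, pp_mem hx⟩) (y := ⟨_, pp_mem hy⟩) ?_ e ?_ ?_
  · rw [hZ, Nat.card_congr (Subgroup.subgroupOfEquivOfLe (K_mono A hle)).toEquiv, hc]
  · rw [hZ, Subgroup.mem_subgroupOf]
    show pp A x * pp A x * (pp A y * pp A y) ∈ _
    rw [h1]; exact pp_mem hd
  · intro e
    exact hd1 (h1 ▸ congrArg Subtype.val e)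

theorem nonsplit_all {G H : Type*} [Group G] [Group H] {d : G} {S : Type*} [Group S]
    (e : S ≃* Subgroup.centralizer ({d} : Set G)) (h : Cfsg.IsNonsplitDoubleCover S H) :
    ∀ d' ∈ conjugatesOf d,
      Cfsg.IsNonsplitDoubleCover (Subgroup.centralizer ({d'} : Set G)) H := fun _ hd => by
  obtain ⟨f⟩ := centralizer_equiv_of_isConj hd
  exact nonsplit_congr (e.trans f) h

theorem exists_not_comm_of_simple {G : Type*} [Group G] [IsSimpleGroup G] {d : G} (hd : d ≠ 1)
    (h : ¬ (Nat.card G).Prime) : ∃ g, g * d ≠ d * g := by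
  by_contra hc
  push Not at hc
  have h1 : d ∈ Subgroup.center G := Subgroup.mem_center_iff.2 hc
  rcases (inferInstance : (Subgroup.center G).Normal).eq_bot_or_eq_top with h2 | h2
  · exact hd (Subgroup.mem_bot.1 (h2 ▸ h1))
  · let : CommGroup G := { (inferInstance : Group G) with
      mul_comm := fun a b => Subgroup.mem_center_iff.1 (h2.symm ▸ Subgroup.mem_top b) a }
    exact h IsSimpleGroup.prime_card

end Cfsg.Agent.Spor
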